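import Groth.Agent.Fga.IntegralSub
import Groth.Agent.CycB.RelDim2
import Mathlib.AlgebraicGeometry.Morphisms.Proper

/-!
# Lifting points and curves along surjective morphisms

For `f : X' ⟶ X` surjective of finite type and `y : X` there is a point `x'` over `y` with `κ(x')` algebraic
over `κ(y)` (`exists_rtd_eq_zero`); over a field `k` the integral closed subscheme with generic point `x'` then has the
dimension of `closure {y}`.
-/

set_option autoImplicit false
universe u
open CategoryTheory CategoryTheory.Limits AlgebraicGeometry TopologicalSpace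

namespace Groth.Agent.Pic13.H960.CurveLift

open Groth.Agent.CycB.RelDim

variable {X X' Y Z : Scheme.{u}}

theorem topologicalKrullDim_le_of_subsingleton (T : Type*) [TopologicalSpace T] [Subsingleton T] :
    topologicalKrullDim T ≤ 0 := by
  have : DiscreteTopology T := Subsingleton.discreteTopology
  exact topologicalKrullDim_zero_of_discreteTopology T

/-- A point of the fibre which is algebraic over the base point. -/
theorem exists_rtd_eq_zero (f : X' ⟶ X) [LocallyOfFiniteType f] [QuasiCompact f] [Surjective f] (y : X) :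
    ∃ x' : X', f x' = y ∧ rtd f x' = 0 := by
  have : CompactSpace (f.fiber y) :=
    inferInstance
  obtain ⟨x, hx⟩ := (inferInstance : Surjective f).surj y
  have hne : Nonempty (f.fiber y) := by
    have : x ∈ Set.range (f.fiberι y) := by
      rw [Scheme.Hom.range_fiberι]; exact hx
    obtain ⟨z, -⟩ := this
    exact ⟨z⟩
  obtain ⟨z, -, hz⟩ := (isClosed_univ (X := f.fiber y)).exists_closed_singleton Set.univ_nonempty
  obtain ⟨n, hn, hn'⟩ := exists_dim_closure_fiber f y z
  have h0 : topologicalKrullDim (closure {z} : Set (f.fiber y)) ≤ 0 := by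
    rw [hz.closure_eq]
    exact topologicalKrullDim_le_of_subsingleton _
  refine ⟨f.fiberι y z, ?_, ?_⟩
  · have : f.fiberι y z ∈ Set.range (f.fiberι y) := ⟨z, rfl⟩
    rw [Scheme.Hom.range_fiberι] at this
    exact this
  · rw [hn'] at h0
    rw [hn]
    have h1 : n ≤ 0 := by exact_mod_cast h0
    rw [Nat.le_zero.mp h1]; simp

theorem isField_top_spec (k : Type u) [Field k] : IsField Γ(Spec (CommRingCat.of k), ⊤) :=
  (Scheme.ΓSpecIso (CommRingCat.of k)).commRingCatIsoToRingEquiv.toMulEquiv.isField (Field.toIsField _)

/-- The dimension of an integral closed subscheme is the transcendence degree at its generic point. -/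
theorem exists_dim_eq (k : Type u) [Field k] {Z : Scheme.{u}} [IsIntegral Z] (i : Z ⟶ X) [IsClosedImmersion i]
    (p : X ⟶ Spec (CommRingCat.of k)) [LocallyOfFiniteType p] :
    ∃ n : ℕ, rtd p (i (genericPoint Z)) = n ∧ topologicalKrullDim Z = n := by
  obtain ⟨n, hn, hn'⟩ := exists_dim_closure (i ≫ p) (isAffineOpen_top _) (isField_top_spec k) (genericPoint Z)
  refine ⟨n, ?_, ?_⟩
  · have h := rtd_comp i p (genericPoint Z)
    rw [rtd_eq_zero_of_isPreimmersion i, add_zero] at h
    rw [← h, hn]
  · have h : closure {genericPoint Z} = (Set.univ : Set Z) := genericPoint_spec Z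
    rw [← hn', h]
    exact ((Homeomorph.Set.univ Z).isHomeomorph.topologicalKrullDim_eq _).symm

/-- **Curve lifting**: an integral closed subscheme `C` of `X` is dominated by an integral closed subscheme of `X'` of
the same dimension, for `f : X' ⟶ X` surjective of finite type over a field. -/
theorem exists_lift (k : Type u) [Field k] (f : X' ⟶ X) [LocallyOfFiniteType f] [QuasiCompact f] [Surjective f]
    (p : X ⟶ Spec (CommRingCat.of k)) [LocallyOfFiniteType p]
    {C : Scheme.{u}} [IsIntegral C] (i : C ⟶ X) [IsClosedImmersion i] :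
    ∃ (C' : Scheme.{u}) (i' : C' ⟶ X') (_ : IsClosedImmersion i') (_ : IsIntegral C'),
      f (i' (genericPoint C')) = i (genericPoint C) ∧ topologicalKrullDim C' = topologicalKrullDim C := by
  obtain ⟨x', hx', h0⟩ := exists_rtd_eq_zero f (i (genericPoint C))
  obtain ⟨C', i', hi', hC', hgen, -⟩ := Fga.IntegralSub.exists_integral_closed x'
  refine ⟨C', i', hi', hC', by rw [hgen, hx'], ?_⟩
  obtain ⟨n, hn, hn'⟩ := exists_dim_eq k i p
  obtain ⟨m, hm, hm'⟩ := exists_dim_eq k i' (f ≫ p)
  rw [hgen, rtd_comp, h0, add_zero, hx', hn] at hm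
  rw [hn', hm']
  have : n = m := by exact_mod_cast hm
  rw [this]

/-- The image of an integral closed subscheme has at most its dimension. -/
theorem dim_image_le (k : Type u) [Field k] (f : X' ⟶ X)
    (p : X ⟶ Spec (CommRingCat.of k)) [LocallyOfFiniteType p] [LocallyOfFiniteType f]
    {C' : Scheme.{u}} [IsIntegral C'] (i' : C' ⟶ X') [IsClosedImmersion i']
    {C : Scheme.{u}} [IsIntegral C] (i : C ⟶ X) [IsClosedImmersion i]
    (h : f (i' (genericPoint C')) = i (genericPoint C)) :
    topologicalKrullDim C ≤ topologicalKrullDim C' := by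
  obtain ⟨n, hn, hn'⟩ := exists_dim_eq k i p
  obtain ⟨m, hm, hm'⟩ := exists_dim_eq k i' (f ≫ p)
  rw [rtd_comp, h, hn] at hm
  rw [hn', hm']
  have h1 : (n : Cardinal.{u}) ≤ m := by rw [← hm]; exact self_le_add_right _ _
  exact_mod_cast h1

end Groth.Agent.Pic13.H960.CurveLift
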