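import Groth.Prelude.Def_Pic13
import Groth.Agent.Fga.HodgeMult
import Groth.Agent.Fga.HodgeModel
import Groth.Agent.VarietyB.DimTop
import Groth.Agent.Pic13.H960.CurveLift

/-!
# Numerical triviality: pullback and descent

For a `k`-morphism `f : X' ⟶ X` of proper `k`-schemes and `L` invertible on `X`: if `L` is numerically equivalent to
zero, so is `f^*L` (`isNumEquivZero_pullback`), and conversely if `f` is surjective (`isNumEquivZero_of_pullback`).
-/

set_option autoImplicit false
universe u
open CategoryTheory CategoryTheory.Limits AlgebraicGeometry TopologicalSpace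

namespace Groth.Agent.Pic13.H960.NumDescent

open Groth.Agent.Fga Groth.Agent.Fga.PicMon Groth.Agent.Ega2 Groth.Agent.Pic13.H960.CurveLift
open Groth.Agent.CycB.RelDim

/-- A scheme of finite type over a field has finite dimension. -/
theorem exists_dim_le (k : Type u) [Field k] {X : Scheme.{u}} (p : X ⟶ Spec (CommRingCat.of k))
    [LocallyOfFiniteType p] [QuasiCompact p] : ∃ n : ℕ, topologicalKrullDim X ≤ n := by
  classical
  have : IsLocallyNoetherian X := LocallyOfFiniteType.isLocallyNoetherian p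
  have : CompactSpace X := (quasiCompact_iff_compactSpace p).mp inferInstance
  have : AlgebraicGeometry.IsNoetherian X := {}
  have hfin : Finite (irreducibleComponents X) :=
    (TopologicalSpace.NoetherianSpace.finite_irreducibleComponents (α := X)).to_subtype
  have h : ∀ Z : irreducibleComponents X, ∃ n : ℕ, topologicalKrullDim (Z : Set X) = n := by
    rintro ⟨Z, hZ⟩
    obtain ⟨x, hx⟩ := QuasiSober.sober hZ.1 (isClosed_of_mem_irreducibleComponents Z hZ)
    obtain ⟨n, -, hn⟩ := exists_dim_closure p (isAffineOpen_top _) (isField_top_spec k) x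
    exact ⟨n, by rw [← hn, hx.def]⟩
  choose n hn using h
  have : Fintype (irreducibleComponents X) := Fintype.ofFinite _
  refine ⟨Finset.univ.sup n, ?_⟩
  rw [VarietyB.DimTop.topologicalKrullDim_eq_iSup_irreducibleComponents]
  refine iSup_le fun i => (hn i).le.trans ?_
  exact_mod_cast Finset.le_sup (f := n) (Finset.mem_univ i)

/-- The degree is minus the intersection symbol. -/
theorem curveDeg_eq (k : Type u) [Field k] (Y : Scheme.{u}) [Y.Over (Spec (CommRingCat.of k))] (L : Y.Modules) :
    Pic13.curveDeg k (Y ↘ Spec (CommRingCat.of k)) L = - FGA.intNum k Y 1 ![L] (Coh.structureModule Y) := by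
  have h := intNum_cons k Y 1 L (![] : Fin 0 → Y.Modules) (Coh.structureModule Y)
  rw [intNum_zero, intNum_zero] at h
  have h2 : FGA.eulerCharLE k Y (CohB1.tensorMod L (Coh.structureModule Y)) 1 = FGA.eulerCharLE k Y L 1 :=
    euler_iso k Y (Tens.runit L) 1
  rw [h2] at h
  have h3 : FGA.intNum k Y 1 ![L] (Coh.structureModule Y) =
    FGA.eulerCharLE k Y (Coh.structureModule Y) 1 - FGA.eulerCharLE k Y L 1 := h
  rw [h3]
  change FGA.eulerCharLE k Y L 1 - FGA.eulerCharLE k Y (Coh.structureModule Y) 1 = _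
  ring

theorem intNum_dim_congr (k : Type u) [Field k] (Y : Scheme.{u}) [Y.Over (Spec (CommRingCat.of k))]
    [IsProper (Y ↘ Spec (CommRingCat.of k))] (d e : ℕ) (hd : topologicalKrullDim Y ≤ d) (he : topologicalKrullDim Y ≤ e)
    {r : ℕ} (M : Fin r → Y.Modules) (F : Y.Modules) : FGA.intNum k Y d M F = FGA.intNum k Y e M F := by
  have : IsLocallyNoetherian Y := LocallyOfFiniteType.isLocallyNoetherian (Y ↘ (Spec (CommRingCat.of k)))
  have : CompactSpace Y := (quasiCompact_iff_compactSpace (Y ↘ (Spec (CommRingCat.of k)))).mp inferInstance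
  have : AlgebraicGeometry.IsNoetherian Y := {}
  unfold FGA.intNum
  refine Finset.sum_congr rfl fun I _ => ?_
  rw [EulerLEAdd.eulerCharLE_eq_euler k Y d hd, EulerLEAdd.eulerCharLE_eq_euler k Y e he]

theorem map_genericPoint {X Z : Scheme.{u}} [IrreducibleSpace X] [IsIntegral Z] (g : Z ⟶ X) (hg : Surjective g) :
    g (genericPoint Z) = genericPoint X := by
  have h1 : IsGenericPoint (g (genericPoint Z)) (Set.univ : Set X) := by
    rw [IsGenericPoint, ← HodgeMult.closure_range_eq g, hg.surj.range_eq, closure_univ]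
  exact h1.eq (genericPoint_spec X)

/-- **Projection formula up to positive factors**, without an ample module on `W`. -/
theorem exists_mul_eq (k : Type u) [Field k] (X W Y : Scheme.{u})
    [X.Over (Spec (CommRingCat.of k))] [W.Over (Spec (CommRingCat.of k))] [Y.Over (Spec (CommRingCat.of k))]
    [IsProper (X ↘ (Spec (CommRingCat.of k)))] [IsProper (W ↘ (Spec (CommRingCat.of k)))] [IsIntegral W]
    (g : W ⟶ X) (hg : g ≫ (X ↘ (Spec (CommRingCat.of k))) = W ↘ (Spec (CommRingCat.of k)))
    (i : Y ⟶ X) [IsClosedImmersion i] [IsIntegral Y]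
    (hi : i ≫ (X ↘ (Spec (CommRingCat.of k))) = Y ↘ (Spec (CommRingCat.of k)))
    (hgi : i (genericPoint Y) = g (genericPoint W)) (r : ℕ)
    (hW : topologicalKrullDim W ≤ r) (hY : topologicalKrullDim Y ≤ r)
    (M : Fin r → X.Modules) (hM : ∀ i, PicF.IsInvertible (M i)) :
    ∃ a b : ℕ, 0 < a ∧ 0 < b ∧
      (a : ℤ) * FGA.intNum k W r (fun j => (Scheme.Modules.pullback g).obj (M j)) (Coh.structureModule W) =
      b * FGA.intNum k Y r (fun j => (Scheme.Modules.pullback i).obj (M j)) (Coh.structureModule Y) := by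
  obtain ⟨d, hd⟩ := exists_dim_le k (X ↘ Spec (CommRingCat.of k))
  obtain ⟨Z, _, h, hZ, hZp, hh, hhs, hZW, A, hA⟩ := HodgeModel.exists_model k W
  have hZr := hZW.trans hW
  have hYp : IsProper (Y ↘ Spec (CommRingCat.of k)) := by rw [← hi]; infer_instance
  obtain ⟨b, hb, h1⟩ := HodgeMult.push_formula k X Z Y (h ≫ g) (by rw [Category.assoc, hg, hh]) i hi
    (by rw [hgi, Scheme.Hom.comp_apply, map_genericPoint h hhs]) d r r hd hZr hZr hY M hM hA
  obtain ⟨a, ha, h2⟩ := HodgeMult.push_formula k W Z W h hh (𝟙 W) (Category.id_comp _)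
    (by rw [map_genericPoint h hhs]; rfl) r r r hW hZr hZr hW
    (fun j => (Scheme.Modules.pullback g).obj (M j)) (fun j => Fdesc.LocGen.isInvertible_pullback g (hM j)) hA
  refine ⟨a, b, ha, hb, ?_⟩
  have e1 : FGA.intNum k Z r (fun j => (Scheme.Modules.pullback (h ≫ g)).obj (M j)) (Coh.structureModule Z) =
      FGA.intNum k Z r (fun j => (Scheme.Modules.pullback h).obj ((Scheme.Modules.pullback g).obj (M j)))
        (Coh.structureModule Z) :=
    intNum_congr k Z r _ _ (fun j => ⟨((Scheme.Modules.pullbackComp h g).app (M j)).symm⟩) _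
  have e2 : FGA.intNum k W r (fun j => (Scheme.Modules.pullback (𝟙 W)).obj ((Scheme.Modules.pullback g).obj (M j)))
      (Coh.structureModule W) = FGA.intNum k W r (fun j => (Scheme.Modules.pullback g).obj (M j)) (Coh.structureModule W) :=
    intNum_congr k W r _ _ (fun j => ⟨(Scheme.Modules.pullbackId W).app _⟩) _
  rw [e1, h2, e2, intNum_dim_congr k Y d r ((i.isClosedEmbedding.isInducing.topologicalKrullDim_le).trans hd) hY] at h1
  exact h1

/-- The intersection symbol of one invertible module vanishes on an integral scheme of dimension zero. -/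
theorem intNum_eq_zero (k : Type u) [Field k] (Y : Scheme.{u}) [Y.Over (Spec (CommRingCat.of k))]
    [IsProper (Y ↘ Spec (CommRingCat.of k))] (r : ℕ) (hY : topologicalKrullDim Y < r)
    (M : Fin r → Y.Modules) (hM : ∀ i, PicF.IsInvertible (M i)) :
    FGA.intNum k Y r M (Coh.structureModule Y) = 0 := by
  have : IsLocallyNoetherian Y := LocallyOfFiniteType.isLocallyNoetherian (Y ↘ (Spec (CommRingCat.of k)))
  exact S3231.result k Y r hY.le M hM _ (CurvesC.UnitCoh.isCoh_unit Y)
    (lt_of_le_of_lt (Topology.IsInducing.subtypeVal.topologicalKrullDim_le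
        (Y := CohB1.support (Coh.structureModule Y))) hY)

theorem curveDeg_iso (k : Type u) [Field k] {Y : Scheme.{u}} (p : Y ⟶ Spec (CommRingCat.of k)) {L M : Y.Modules}
    (e : L ≅ M) : Pic13.curveDeg k p L = Pic13.curveDeg k p M := by
  unfold Pic13.curveDeg
  rw [@euler_iso k _ Y ⟨p⟩ L M e 1]

/-- The intersection symbol against a curve in `X` is minus the degree. -/
theorem intNum_restrict (k : Type u) [Field k] (X Y : Scheme.{u}) [X.Over (Spec (CommRingCat.of k))]
    (i : Y ⟶ X) (L : X.Modules) :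
    letI : Y.Over (Spec (CommRingCat.of k)) := ⟨i ≫ (X ↘ Spec (CommRingCat.of k))⟩
    FGA.intNum k Y 1 (fun j => (Scheme.Modules.pullback i).obj ((![L] : Fin 1 → X.Modules) j)) (Coh.structureModule Y) =
      - Pic13.curveDeg k (i ≫ (X ↘ Spec (CommRingCat.of k))) ((Scheme.Modules.pullback i).obj L) := by
  let _ : Y.Over (Spec (CommRingCat.of k)) := ⟨i ≫ (X ↘ Spec (CommRingCat.of k))⟩
  have h := curveDeg_eq k Y ((Scheme.Modules.pullback i).obj L)
  change Pic13.curveDeg k (i ≫ (X ↘ Spec (CommRingCat.of k))) _ = _ at h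
  rw [h, neg_neg]
  exact intNum_congr k Y 1 _ _ (fun j => by fin_cases j; exact ⟨Iso.refl _⟩) _

/-- **Numerical triviality is stable under pullback.** -/
theorem isNumEquivZero_pullback (k : Type u) [Field k] {X' X : Scheme.{u}}
    [X'.Over (Spec (CommRingCat.of k))] [X.Over (Spec (CommRingCat.of k))]
    [IsProper (X' ↘ Spec (CommRingCat.of k))] [IsProper (X ↘ Spec (CommRingCat.of k))]
    (f : X' ⟶ X) (hf : f ≫ (X ↘ Spec (CommRingCat.of k)) = X' ↘ Spec (CommRingCat.of k))
    {L : X.Modules} (hL : PicF.IsInvertible L) (h : Pic13.IsNumEquivZero k X L) :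
    Pic13.IsNumEquivZero k X' ((Scheme.Modules.pullback f).obj L) := by
  intro Y' i' _ hY' hdim
  have hfp : IsProper f := by
    have : IsProper (f ≫ (X ↘ (Spec (CommRingCat.of k)))) := by rw [hf]; infer_instance
    exact IsProper.of_comp f (X ↘ (Spec (CommRingCat.of k)))
  obtain ⟨Y, i, hi, hY, hgen, -⟩ := IntegralSub.exists_integral_closed (f (i' (genericPoint Y')))
  let _ : Y.Over (Spec (CommRingCat.of k)) := ⟨i ≫ (X ↘ Spec (CommRingCat.of k))⟩
  let _ : Y'.Over (Spec (CommRingCat.of k)) := ⟨i' ≫ (X' ↘ Spec (CommRingCat.of k))⟩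
  have hYp : IsProper (Y ↘ Spec (CommRingCat.of k)) := inferInstanceAs (IsProper (i ≫ _))
  have hYp' : IsProper (Y' ↘ Spec (CommRingCat.of k)) := inferInstanceAs (IsProper (i' ≫ _))
  have hY1 : topologicalKrullDim Y ≤ topologicalKrullDim Y' :=
    dim_image_le k f (X ↘ Spec (CommRingCat.of k)) i' i hgen.symm
  rw [hdim] at hY1
  have hM : ∀ j, PicF.IsInvertible ((![L] : Fin 1 → X.Modules) j) := fun j => by fin_cases j; exact hL
  obtain ⟨a, b, ha, hb, he⟩ := exists_mul_eq k X Y' Y (i' ≫ f) (by rw [Category.assoc, hf]; rfl) i rfl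
    (by rw [hgen, Scheme.Hom.comp_apply]) 1 (by rw [hdim]; rfl) (by exact_mod_cast hY1) ![L] hM
  have h0 : FGA.intNum k Y 1 (fun j => (Scheme.Modules.pullback i).obj ((![L] : Fin 1 → X.Modules) j))
      (Coh.structureModule Y) = 0 := by
    by_cases h1 : topologicalKrullDim Y = 1
    · have h2 := intNum_restrict k X Y i L
      rw [h Y i hY h1, neg_zero] at h2
      exact h2
    · refine intNum_eq_zero k Y 1 ?_ _ (fun j => by fin_cases j; exact Fdesc.LocGen.isInvertible_pullback i hL)
      exact lt_of_le_of_ne (by exact_mod_cast hY1) (by simpa using h1)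
  rw [h0, mul_zero] at he
  have h3 := (mul_eq_zero.mp he).resolve_left (by exact_mod_cast ha.ne')
  have h4 := intNum_restrict k X' Y' i' ((Scheme.Modules.pullback f).obj L)
  have h5 : FGA.intNum k Y' 1 (fun j => (Scheme.Modules.pullback (i' ≫ f)).obj ((![L] : Fin 1 → X.Modules) j))
      (Coh.structureModule Y') = FGA.intNum k Y' 1
        (fun j => (Scheme.Modules.pullback i').obj ((![(Scheme.Modules.pullback f).obj L] : Fin 1 → X'.Modules) j))
        (Coh.structureModule Y') :=
    intNum_congr k Y' 1 _ _ (fun j => by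
      fin_cases j; exact ⟨((Scheme.Modules.pullbackComp i' f).app L).symm⟩) _
  rw [← h5, h3] at h4
  linarith

/-- **Numerical triviality descends along surjective morphisms.** -/
theorem isNumEquivZero_of_pullback (k : Type u) [Field k] {X' X : Scheme.{u}}
    [X'.Over (Spec (CommRingCat.of k))] [X.Over (Spec (CommRingCat.of k))]
    [IsProper (X' ↘ Spec (CommRingCat.of k))] [IsProper (X ↘ Spec (CommRingCat.of k))]
    (f : X' ⟶ X) (hf : f ≫ (X ↘ Spec (CommRingCat.of k)) = X' ↘ Spec (CommRingCat.of k)) [Surjective f]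
    {L : X.Modules} (hL : PicF.IsInvertible L)
    (h : Pic13.IsNumEquivZero k X' ((Scheme.Modules.pullback f).obj L)) :
    Pic13.IsNumEquivZero k X L := by
  intro Y i _ hY hdim
  have hfp : IsProper f := by
    have : IsProper (f ≫ (X ↘ (Spec (CommRingCat.of k)))) := by rw [hf]; infer_instance
    exact IsProper.of_comp f (X ↘ (Spec (CommRingCat.of k)))
  obtain ⟨Y', i', hi', hY', hgen, hdim'⟩ := exists_lift k f (X ↘ Spec (CommRingCat.of k)) i
  rw [hdim] at hdim'
  let _ : Y.Over (Spec (CommRingCat.of k)) := ⟨i ≫ (X ↘ Spec (CommRingCat.of k))⟩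
  let _ : Y'.Over (Spec (CommRingCat.of k)) := ⟨i' ≫ (X' ↘ Spec (CommRingCat.of k))⟩
  have hYp : IsProper (Y ↘ Spec (CommRingCat.of k)) := inferInstanceAs (IsProper (i ≫ _))
  have hYp' : IsProper (Y' ↘ Spec (CommRingCat.of k)) := inferInstanceAs (IsProper (i' ≫ _))
  have hM : ∀ j, PicF.IsInvertible ((![L] : Fin 1 → X.Modules) j) := fun j => by fin_cases j; exact hL
  obtain ⟨a, b, ha, hb, he⟩ := exists_mul_eq k X Y' Y (i' ≫ f) (by rw [Category.assoc, hf]; rfl) i rfl
    (by rw [← hgen, Scheme.Hom.comp_apply]) 1 (by rw [hdim']; rfl) (by rw [hdim]; rfl) ![L] hM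
  have h4 := intNum_restrict k X' Y' i' ((Scheme.Modules.pullback f).obj L)
  rw [h Y' i' hY' hdim', neg_zero] at h4
  have h5 : FGA.intNum k Y' 1 (fun j => (Scheme.Modules.pullback (i' ≫ f)).obj ((![L] : Fin 1 → X.Modules) j))
      (Coh.structureModule Y') = FGA.intNum k Y' 1
        (fun j => (Scheme.Modules.pullback i').obj ((![(Scheme.Modules.pullback f).obj L] : Fin 1 → X'.Modules) j))
        (Coh.structureModule Y') :=
    intNum_congr k Y' 1 _ _ (fun j => by
      fin_cases j; exact ⟨((Scheme.Modules.pullbackComp i' f).app L).symm⟩) _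
  have h4' := h5.trans h4
  rw [h4', mul_zero] at he
  have h3 := (mul_eq_zero.mp he.symm).resolve_left (by exact_mod_cast hb.ne')
  have h2 := intNum_restrict k X Y i L
  have h6 := h2.symm.trans h3
  linarith

end Groth.Agent.Pic13.H960.NumDescent
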