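import Groth.Agent.Pic13.H960.AAMod
import Groth.Agent.Ega3A.PicLocBase

/-!
# Theorem AA

`Y` locally of finite type over `k = k̄`, `h : X ⟶ Y` proper with `O_Y → h_* O_X` injective, `N` a `k`-scheme of
finite type with `Γ(N, O_N) = k` and a rational point `e`; a class in `Pic (Y × N)` which is trivial on `Y × e` and
on `X × N` is trivial.
-/

set_option autoImplicit false
set_option linter.dupNamespace false
universe u
open CategoryTheory CategoryTheory.Limits AlgebraicGeometry TopologicalSpace MonoidalCategory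
open Groth.Agent.Ega3A.PicDiv Groth.Agent.Ega3A.PicEtSh Groth.Agent.Grpsch.PicGrp
open Groth.Agent.Fdesc.LocGen

namespace Groth.Agent.Pic13.H960.AA

/-- The base change `X × N ⟶ Y × N` of `h`. -/
noncomputable def bcX {X Y S : Scheme.{u}} (p : Y ⟶ S) (h : X ⟶ Y) (N : Over S) :
    PicF.XT (h ≫ p) N ⟶ PicF.XT p N :=
  pullback.map (h ≫ p) N.hom p N.hom h (𝟙 _) (𝟙 _) (by simp) (by simp)

@[reassoc]
theorem bcX_fst {X Y S : Scheme.{u}} (p : Y ⟶ S) (h : X ⟶ Y) (N : Over S) :
    bcX p h N ≫ pullback.fst p N.hom = pullback.fst (h ≫ p) N.hom ≫ h :=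
  pullback.lift_fst _ _ _

@[reassoc]
theorem bcX_snd {X Y S : Scheme.{u}} (p : Y ⟶ S) (h : X ⟶ Y) (N : Over S) :
    bcX p h N ≫ pullback.snd p N.hom = pullback.snd (h ≫ p) N.hom :=
  (pullback.lift_snd _ _ _).trans (Category.comp_id _)

theorem isPullback_bcX {X Y S : Scheme.{u}} (p : Y ⟶ S) (h : X ⟶ Y) (N : Over S) :
    IsPullback (pullback.fst (h ≫ p) N.hom) (bcX p h N) h (pullback.fst p N.hom) := by
  refine (IsPullback.of_right (h₁₂ := pullback.snd p N.hom) (h₂₂ := p) (v₁₃ := N.hom) ?_ ?_ ?_).flip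
  · rw [bcX_snd]
    exact (IsPullback.of_hasPullback (h ≫ p) N.hom).flip
  · exact bcX_fst p h N
  · exact (IsPullback.of_hasPullback p N.hom).flip

/-- A proper morphism which is injective on functions is surjective. -/
theorem surjective_of_injective {X Y : Scheme.{u}} (h : X ⟶ Y) [IsProper h]
    (hinj : ∀ U : Y.Opens, Function.Injective (h.app U)) : Surjective h := by
  refine ⟨fun y => ?_⟩
  by_contra hy
  have hcl : IsClosed (Set.range h) := h.isClosedMap.isClosed_range
  let U : Y.Opens := ⟨(Set.range h)ᶜ, hcl.isOpen_compl⟩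
  have hU : h ⁻¹ᵁ U = ⊥ := by
    rw [eq_bot_iff]
    intro x hx
    exact hx ⟨x, rfl⟩
  have h1 : Subsingleton Γ(X, h ⁻¹ᵁ U) := by
    rw [hU]
    infer_instance
  have h2 : Subsingleton Γ(Y, U) := (hinj U).subsingleton
  have h3 : (1 : Γ(Y, U)) = 0 := Subsingleton.elim _ _
  have h4 : Y.basicOpen (1 : Γ(Y, U)) = U := Scheme.basicOpen_of_isUnit _ isUnit_one
  rw [h3, Scheme.basicOpen_zero] at h4
  have h5 : y ∈ U := hy
  rw [← h4] at h5
  exact h5

theorem AA (k : Type u) [Field k] [IsAlgClosed k] {X Y : Scheme.{u}} (p : Y ⟶ Spec (CommRingCat.of k))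
    [LocallyOfFiniteType p] (h : X ⟶ Y) [IsProper h]
    (hinj : ∀ U : Y.Opens, Function.Injective (h.app U)) (N : Over (Spec (CommRingCat.of k)))
    [LocallyOfFiniteType N.hom] (hN : Function.Surjective N.hom.appTop)
    (e : 𝟙_ (Over (Spec (CommRingCat.of k))) ⟶ N) (c : Pic (PicF.XT p N))
    (he : pull (PicF.XTmap p e) c = 1) (hc : pull (bcX p h N) c = 1) : c = 1 := by
  have : Surjective h := surjective_of_injective h hinj
  obtain ⟨L, hL, rfl⟩ := exists_mk c
  rw [pull_mk, mk_eq_one_iff] at hc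
  -- the section
  let eN : Spec (CommRingCat.of k) ⟶ N.left := e.left
  have heN : eN ≫ N.hom = 𝟙 _ := Over.w e
  let eY : Y ⟶ PicF.XT p N := pullback.lift (𝟙 Y) (p ≫ eN) (by rw [Category.assoc, heN, Category.id_comp, Category.comp_id])
  let eX : X ⟶ PicF.XT (h ≫ p) N := pullback.lift (𝟙 X) ((h ≫ p) ≫ eN)
    (by rw [Category.assoc, heN, Category.id_comp, Category.comp_id])
  have heY : eY ≫ pullback.fst p N.hom = 𝟙 Y := pullback.lift_fst _ _ _
  have heY' : eY ≫ pullback.snd p N.hom = p ≫ eN := pullback.lift_snd _ _ _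
  have heX : eX ≫ pullback.fst (h ≫ p) N.hom = 𝟙 X := pullback.lift_fst _ _ _
  have w : eX ≫ bcX p h N = h ≫ eY := by
    have heX' : eX ≫ pullback.snd (h ≫ p) N.hom = (h ≫ p) ≫ eN := pullback.lift_snd _ _ _
    apply pullback.hom_ext
    · rw [Category.assoc, bcX_fst, reassoc_of% heX, Category.assoc, heY, Category.comp_id]
    · rw [Category.assoc, bcX_snd, heX', Category.assoc, Category.assoc, heY']
  have he' : pull eY (mk L hL) = 1 := by
    have h1 : eY = pullback.lift (𝟙 Y) p (by simp) ≫ PicF.XTmap p e := by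
      have h2 : PicF.XTmap p e ≫ pullback.fst p N.hom = pullback.fst p (𝟙_ (Over (Spec (CommRingCat.of k)))).hom :=
        (pullback.lift_fst _ _ _).trans (Category.comp_id _)
      have h3 : PicF.XTmap p e ≫ pullback.snd p N.hom =
          pullback.snd p (𝟙_ (Over (Spec (CommRingCat.of k)))).hom ≫ eN :=
        pullback.lift_snd _ _ _
      apply pullback.hom_ext
      · rw [heY, Category.assoc, h2]
        exact (pullback.lift_fst _ _ _).symm
      · rw [heY', Category.assoc, h3]
        exact congrArg (· ≫ eN) (pullback.lift_snd _ _ _).symm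
    rw [h1, pull_comp, he, map_one]
  rw [pull_mk, mk_eq_one_iff] at he'
  have : Flat (pullback.fst p N.hom) := inferInstance
  have : LocallyOfFiniteType (pullback.fst p N.hom) := inferInstance
  rw [mk_eq_one_iff]
  exact AAMod.nonempty_iso (IsPullback.of_hasPullback p N.hom) heN heY heY' (isPullback_bcX p h N) heX w
    hinj hN L hL hc he'

/-- A surjective morphism to a reduced scheme is injective on functions. -/
theorem app_injective_of_surjective {X Y : Scheme.{u}} (h : X ⟶ Y) [Surjective h] [IsReduced Y] (U : Y.Opens) :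
    Function.Injective (h.app U) := by
  rw [injective_iff_map_eq_zero]
  intro f hf
  rw [← basicOpen_eq_bot_iff, eq_bot_iff]
  intro y hy
  obtain ⟨x, rfl⟩ := h.surjective y
  have h1 : x ∈ h ⁻¹ᵁ (Y.basicOpen f) := hy
  rw [Scheme.preimage_basicOpen, hf, Scheme.basicOpen_zero] at h1
  exact h1

/-- Theorem AA in the form used for the kernel theorem. -/
theorem aa (k : Type u) [Field k] [IsAlgClosed k] {X Y : Scheme.{u}} (p : Y ⟶ Spec (CommRingCat.of k))
    [LocallyOfFiniteType p] (h : X ⟶ Y) [IsProper h] [IsReduced Y] [Surjective h]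
    (N : Over (Spec (CommRingCat.of k))) [LocallyOfFiniteType N.hom] (hN : IsIso N.hom.appTop)
    (e : 𝟙_ (Over (Spec (CommRingCat.of k))) ⟶ N) (c : Pic (PicF.XT p N))
    (he : pull (PicF.XTmap p e) c = 1) (hc : pull (bcX p h N) c = 1) : c = 1 :=
  AA k p h (app_injective_of_surjective h) N (ConcreteCategory.bijective_of_isIso N.hom.appTop).2 e c he hc

end Groth.Agent.Pic13.H960.AA
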