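import Mathlib.RingTheory.Ideal.AssociatedPrime.Finiteness
import Mathlib.RingTheory.Filtration
import Mathlib.RingTheory.Flat.Basic
import Mathlib.LinearAlgebra.TensorProduct.RightExactness
import Mathlib.RingTheory.TensorProduct.Finite

/-!
# Dévissage for compatible families of sections of flat twisted modules

`Sys R`: a family of flat `R`-algebras `E i` with arrows `ρ κ : E (src κ) → E (tgt κ)` and multipliers `g κ`, and
evaluations `ε j : E (pt j) → D j`, `D j` flat.  A family `s i ∈ E i ⊗ P` is compatible if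
`s (tgt κ) = g κ • ρ κ (s (src κ))` and vanishes at the evaluations if `ε j (s (pt j)) = 0`.
`Good S P`: compatible families in `P` vanishing at the evaluations are zero.

* `Good.of_pow`: if `R ⧸ m` is good then so is every finite module killed by a power of the maximal ideal `m`.
* `good_of_finite`: if `R ⧸ m` is good for every maximal `m` and the `E i` are Noetherian with closed points lying
  over closed points, then every finite `R`-module is good (Krull).
-/

set_option autoImplicit false

open TensorProduct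

namespace Groth.Agent.Pic13.H960.AADev

universe u v

/-- Flat charts with arrows, multipliers and evaluations. -/
structure Sys (R : Type u) [CommRing R] where
  I : Type v
  E : I → Type u
  [ringE : ∀ i, CommRing (E i)]
  [algE : ∀ i, Algebra R (E i)]
  [flatE : ∀ i, Module.Flat R (E i)]
  K : Type v
  src : K → I
  tgt : K → I
  ρ : ∀ κ, E (src κ) →ₐ[R] E (tgt κ)
  g : ∀ κ, E (tgt κ)
  J : Type v
  pt : J → I
  D : J → Type u
  [ringD : ∀ j, CommRing (D j)]
  [algD : ∀ j, Algebra R (D j)]
  [flatD : ∀ j, Module.Flat R (D j)]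
  ε : ∀ j, E (pt j) →ₐ[R] D j

attribute [instance] Sys.ringE Sys.algE Sys.flatE Sys.ringD Sys.algD Sys.flatD

variable {R : Type u} [CommRing R] (S : Sys.{u, v} R)

section

variable (P : Type u) [AddCommGroup P] [Module R P]

/-- Compatible families. -/
def Compat (s : ∀ i, S.E i ⊗[R] P) : Prop :=
  ∀ κ, s (S.tgt κ) = S.g κ • (S.ρ κ).toLinearMap.rTensor P (s (S.src κ))

/-- Families vanishing at the evaluations. -/
def Van (s : ∀ i, S.E i ⊗[R] P) : Prop :=
  ∀ j, (S.ε j).toLinearMap.rTensor P (s (S.pt j)) = 0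

/-- Compatible families vanishing at the evaluations are zero. -/
def Good : Prop := ∀ s : ∀ i, S.E i ⊗[R] P, Compat S P s → Van S P s → ∀ i, s i = 0

end

section

variable {P P' : Type u} [AddCommGroup P] [Module R P] [AddCommGroup P'] [Module R P']

theorem map_smul_lTensor {E : Type u} [CommRing E] [Algebra R E] (f : P →ₗ[R] P') (a : E) (x : E ⊗[R] P) :
    f.lTensor E (a • x) = a • f.lTensor E x := by
  rw [← LinearMap.baseChange_eq_ltensor, map_smul]

theorem lTensor_rTensor {E E' : Type u} [CommRing E] [Algebra R E] [CommRing E'] [Algebra R E']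
    (f : P →ₗ[R] P') (r : E →ₗ[R] E') (x : E ⊗[R] P) :
    f.lTensor E' (r.rTensor P x) = r.rTensor P' (f.lTensor E x) := by
  rw [← LinearMap.comp_apply, ← LinearMap.comp_apply, LinearMap.lTensor_comp_rTensor,
    LinearMap.rTensor_comp_lTensor]

variable {S}

theorem Compat.map {s : ∀ i, S.E i ⊗[R] P} (hs : Compat S P s) (f : P →ₗ[R] P') :
    Compat S P' fun i => f.lTensor (S.E i) (s i) := by
  intro κ
  change f.lTensor _ (s (S.tgt κ)) = _
  rw [hs κ, map_smul_lTensor, lTensor_rTensor]

theorem Van.map {s : ∀ i, S.E i ⊗[R] P} (hs : Van S P s) (f : P →ₗ[R] P') :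
    Van S P' fun i => f.lTensor (S.E i) (s i) := by
  intro j
  change (S.ε j).toLinearMap.rTensor P' (f.lTensor _ (s (S.pt j))) = _
  rw [← lTensor_rTensor, hs j, map_zero]

theorem Compat.of_map {s : ∀ i, S.E i ⊗[R] P} (f : P →ₗ[R] P') (hf : Function.Injective f)
    (hs : Compat S P' fun i => f.lTensor (S.E i) (s i)) : Compat S P s := by
  intro κ
  apply Module.Flat.lTensor_preserves_injective_linearMap (M := S.E (S.tgt κ)) f hf
  rw [map_smul_lTensor, lTensor_rTensor]
  exact hs κ

theorem Van.of_map {s : ∀ i, S.E i ⊗[R] P} (f : P →ₗ[R] P') (hf : Function.Injective f)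
    (hs : Van S P' fun i => f.lTensor (S.E i) (s i)) : Van S P s := by
  intro j
  apply Module.Flat.lTensor_preserves_injective_linearMap (M := S.D j) f hf
  rw [map_zero, lTensor_rTensor]
  exact hs j

theorem Good.of_injective (f : P →ₗ[R] P') (hf : Function.Injective f) (h : Good S P') : Good S P := by
  intro s h1 h2 i
  apply Module.Flat.lTensor_preserves_injective_linearMap (M := S.E i) f hf
  rw [map_zero]
  exact h _ (h1.map f) (h2.map f) i

theorem Good.of_equiv (e : P ≃ₗ[R] P') (h : Good S P') : Good S P :=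
  h.of_injective e.toLinearMap e.injective

theorem Good.of_subsingleton [Subsingleton P] : Good S P := by
  intro s _ _ i
  have : Subsingleton (S.E i ⊗[R] P) := by
    refine ⟨fun a b => ?_⟩
    have key : ∀ a : S.E i ⊗[R] P, a = 0 := fun a => by
      induction a using TensorProduct.induction_on with
      | zero => rfl
      | tmul x y => rw [Subsingleton.elim y 0, TensorProduct.tmul_zero]
      | add x y hx hy => rw [hx, hy, add_zero]
    rw [key a, key b]
  exact Subsingleton.elim _ _

theorem Good.of_exact {P'' : Type u} [AddCommGroup P''] [Module R P''] (f : P →ₗ[R] P') (g : P' →ₗ[R] P'')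
    (hf : Function.Injective f) (hg : Function.Surjective g) (hfg : Function.Exact f g)
    (h1 : Good S P) (h3 : Good S P'') : Good S P' := by
  intro s hc hv
  have h : ∀ i, ∃ t : S.E i ⊗[R] P, f.lTensor (S.E i) t = s i := fun i =>
    ((lTensor_exact (S.E i) hfg hg) (s i)).1 (h3 _ (hc.map g) (hv.map g) i)
  choose t ht using h
  have hs : s = fun i => f.lTensor (S.E i) (t i) := funext fun i => (ht i).symm
  have h0 := h1 t (Compat.of_map f hf (hs ▸ hc)) (Van.of_map f hf (hs ▸ hv))
  intro i
  rw [← ht i, h0 i, map_zero]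

end

/-- Finite modules killed by a power of `m` are good if `R ⧸ m` is. -/
theorem Good.of_pow [IsNoetherianRing R] (m : Ideal R) [hm : m.IsMaximal] (h : Good S (R ⧸ m))
    (P : Type u) [AddCommGroup P] [Module R P] [hP : Module.Finite R P] (n : ℕ)
    (hn : ∀ r ∈ m ^ n, ∀ x : P, r • x = 0) : Good S P := by
  revert hn
  induction hP using IsNoetherianRing.induction_on_isQuotientEquivQuotientPrime R with
  | subsingleton N => exact fun _ => Good.of_subsingleton
  | quotient N p f =>
    intro hn
    have hle : m ≤ p.1 := by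
      refine Ideal.IsPrime.le_of_pow_le (P := p.1) (n := n) fun r hr => ?_
      have h1 := hn r hr (f.symm (Ideal.Quotient.mk p.1 1))
      have h2 : r • (Ideal.Quotient.mk p.1 1) = 0 := by
        rw [← f.apply_symm_apply (Ideal.Quotient.mk p.1 1), ← map_smul, h1, map_zero]
      rwa [← Ideal.Quotient.mk_eq_mk, ← Submodule.Quotient.mk_smul, smul_eq_mul, mul_one,
        Submodule.Quotient.mk_eq_zero] at h2
    have he : m = p.1 := hm.eq_of_le p.2.ne_top hle
    subst he
    exact h.of_equiv f
  | exact N₁ N₂ N₃ f g hf hg hfg h₁ h₃ =>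
    intro hn
    refine Good.of_exact f g hf hg hfg (h₁ fun r hr x => hf ?_) (h₃ fun r hr x => ?_)
    · rw [map_smul, hn r hr, map_zero]
    · obtain ⟨y, rfl⟩ := hg x
      rw [← map_smul, hn r hr, map_zero]

section Krull

variable {P : Type u} [AddCommGroup P] [Module R P]

theorem mem_smul_top_of_mkQ (E : Type u) [CommRing E] [Algebra R E] (J : Ideal R) (𝔫 : Ideal E)
    (hJ : ∀ r ∈ J, algebraMap R E r ∈ 𝔫) (s : E ⊗[R] P)
    (hs : (J • (⊤ : Submodule R P)).mkQ.lTensor E s = 0) : s ∈ 𝔫 • (⊤ : Submodule E (E ⊗[R] P)) := by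
  obtain ⟨t, rfl⟩ := ((lTensor_exact E (LinearMap.exact_subtype_mkQ (J • (⊤ : Submodule R P)))
    (Submodule.mkQ_surjective _)) s).1 hs
  induction t using TensorProduct.induction_on with
  | zero => rw [map_zero]; exact Submodule.zero_mem _
  | add x y hx hy =>
    rw [map_add]
    have h2 : ∀ z, (J • (⊤ : Submodule R P)).mkQ.lTensor E
        ((J • (⊤ : Submodule R P)).subtype.lTensor E z) = 0 := fun z =>
      ((lTensor_exact E (LinearMap.exact_subtype_mkQ (J • (⊤ : Submodule R P)))
        (Submodule.mkQ_surjective _)) _).2 ⟨z, rfl⟩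
    exact Submodule.add_mem _ (hx (h2 x)) (hy (h2 y))
  | tmul a x =>
    have key : ∀ y : P, y ∈ J • (⊤ : Submodule R P) →
        a ⊗ₜ[R] y ∈ 𝔫 • (⊤ : Submodule E (E ⊗[R] P)) := fun y hy => by
      refine Submodule.smul_induction_on hy (fun r hr y _ => ?_) fun y z hy hz => ?_
      · rw [TensorProduct.tmul_smul, ← algebraMap_smul E r (a ⊗ₜ[R] y)]
        exact Submodule.smul_mem_smul (hJ r hr) trivial
      · rw [TensorProduct.tmul_add]
        exact Submodule.add_mem _ hy hz
    exact key x.1 x.2

/-- Finite modules are good if the residue fields at all maximal ideals are. -/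
theorem good_of_finite [IsNoetherianRing R] [∀ i, IsNoetherianRing (S.E i)]
    (hmax : ∀ i (𝔫 : Ideal (S.E i)), 𝔫.IsMaximal → (𝔫.comap (algebraMap R (S.E i))).IsMaximal)
    (h : ∀ m : Ideal R, m.IsMaximal → Good S (R ⧸ m)) [Module.Finite R P] : Good S P := by
  intro s hc hv i
  by_contra hne
  set Ann : Ideal (S.E i) := LinearMap.ker (LinearMap.toSpanSingleton (S.E i) _ (s i)) with hAnn
  have hA : Ann ≠ ⊤ := by
    intro h1
    apply hne
    have : (1 : S.E i) ∈ Ann := by rw [h1]; trivial
    rw [hAnn, LinearMap.mem_ker, LinearMap.toSpanSingleton_apply, one_smul] at this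
    exact this
  obtain ⟨𝔫, h𝔫, hle⟩ := Ideal.exists_le_maximal Ann hA
  set m : Ideal R := 𝔫.comap (algebraMap R (S.E i)) with hm
  have hmm : m.IsMaximal := hmax i 𝔫 h𝔫
  have hall : s i ∈ (⨅ n : ℕ, 𝔫 ^ n • (⊤ : Submodule (S.E i) (S.E i ⊗[R] P))) := by
    rw [Submodule.mem_iInf]
    intro n
    refine mem_smul_top_of_mkQ (S.E i) (m ^ n) (𝔫 ^ n) (fun r hr => ?_) (s i) ?_
    · have h1 : (m ^ n).map (algebraMap R (S.E i)) ≤ 𝔫 ^ n := by
        rw [Ideal.map_pow]
        exact Ideal.pow_right_mono Ideal.map_comap_le n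
      exact h1 (Ideal.mem_map_of_mem _ hr)
    · refine Good.of_pow S m (h m hmm) (P ⧸ (m ^ n • (⊤ : Submodule R P))) n (fun r hr x => ?_) _
        (hc.map (m ^ n • (⊤ : Submodule R P)).mkQ) (hv.map (m ^ n • (⊤ : Submodule R P)).mkQ) i
      obtain ⟨x, rfl⟩ := Submodule.mkQ_surjective _ x
      rw [← map_smul, Submodule.mkQ_apply, Submodule.Quotient.mk_eq_zero]
      exact Submodule.smul_mem_smul hr trivial
  obtain ⟨r, hr⟩ := (Ideal.mem_iInf_smul_pow_eq_bot_iff 𝔫 (s i)).1 hall
  have h1 : (1 - (r : S.E i)) ∈ Ann := by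
    rw [hAnn, LinearMap.mem_ker, LinearMap.toSpanSingleton_apply, sub_smul, one_smul, hr, sub_self]
  have h2 : (1 : S.E i) ∈ 𝔫 := by
    have := 𝔫.add_mem (hle h1) r.2
    rwa [sub_add_cancel] at this
  exact h𝔫.ne_top ((Ideal.eq_top_iff_one _).2 h2)

end Krull

end Groth.Agent.Pic13.H960.AADev
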