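import Mathlib.Algebra.Category.Ring.Constructions
import Mathlib.Algebra.Category.Ring.Limits
import Mathlib.LinearAlgebra.TensorProduct.RightExactness
import Mathlib.RingTheory.Flat.Basic

/-!
# The class of a function on `X_E` modulo functions on `E`

`Po b a`: `B = E ⊗_R A`.  `kap : B → E ⊗_R (A / R)`.
-/

set_option autoImplicit false

open TensorProduct CategoryTheory Limits

namespace Groth.Agent.Pic13.H960.AAKap

universe u

section

variable {R E A B : Type u} [CommRing R] [CommRing E] [CommRing A] [CommRing B] [Algebra R E] [Algebra R A]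

/-- `B = E ⊗_R A`. -/
structure Po (b : E →+* B) (a : A →+* B) where
  e : E ⊗[R] A ≃+* B
  left : ∀ x, e (x ⊗ₜ 1) = b x
  right : ∀ y, e (1 ⊗ₜ y) = a y

namespace Po

variable {b : E →+* B} {a : A →+* B} (p : Po (R := R) b a)

include p in
theorem map_tmul (x : E) (y : A) : p.e (x ⊗ₜ y) = b x * a y := by
  rw [← p.left, ← p.right, ← map_mul, Algebra.TensorProduct.tmul_mul_tmul, mul_one, one_mul]

theorem symm_mul (x : E) (z : B) : p.e.symm (b x * z) = x • p.e.symm z := by
  apply p.e.injective
  rw [p.e.apply_symm_apply]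
  have : x • p.e.symm z = (x ⊗ₜ[R] (1 : A)) * p.e.symm z := by
    rw [Algebra.smul_def]
    rfl
  rw [this, map_mul, p.left, p.e.apply_symm_apply]

include p in
theorem induction {motive : B → Prop} (zero : motive 0) (mul : ∀ x y, motive (b x * a y))
    (add : ∀ z w, motive z → motive w → motive (z + w)) (z : B) : motive z := by
  rw [← p.e.apply_symm_apply z]
  induction p.e.symm z using TensorProduct.induction_on with
  | zero => rw [map_zero]; exact zero
  | tmul x y => rw [p.map_tmul]; exact mul x y
  | add z w hz hw => rw [map_add]; exact add _ _ hz hw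

/-- The class modulo `E`. -/
noncomputable def kap (z : B) : E ⊗[R] (A ⧸ LinearMap.range (Algebra.linearMap R A)) :=
  (LinearMap.range (Algebra.linearMap R A)).mkQ.lTensor E (p.e.symm z)

theorem kap_add (z w : B) : p.kap (z + w) = p.kap z + p.kap w := by
  rw [kap, kap, kap, map_add, map_add]

theorem kap_zero : p.kap 0 = 0 := by rw [kap, map_zero, map_zero]

theorem kap_mul (x : E) (z : B) : p.kap (b x * z) = x • p.kap z := by
  rw [kap, kap, p.symm_mul, ← LinearMap.baseChange_eq_ltensor, map_smul]

theorem kap_tmul (x : E) (y : A) :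
    p.kap (b x * a y) = x ⊗ₜ (LinearMap.range (Algebra.linearMap R A)).mkQ y := by
  rw [kap, ← p.map_tmul, p.e.symm_apply_apply, LinearMap.lTensor_tmul]

theorem kap_left (x : E) : p.kap (b x) = 0 := by
  have h := p.kap_tmul x 1
  rw [map_one, mul_one] at h
  rw [h]
  have h1 : (LinearMap.range (Algebra.linearMap R A)).mkQ (1 : A) = 0 := by
    rw [Submodule.mkQ_apply, Submodule.Quotient.mk_eq_zero]
    exact ⟨1, by rw [Algebra.linearMap_apply, map_one]⟩
  rw [h1, TensorProduct.tmul_zero]

theorem exists_of_kap_eq_zero (z : B) (hz : p.kap z = 0) : ∃ x, b x = z := by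
  have hex : Function.Exact (Algebra.linearMap R A) (LinearMap.range (Algebra.linearMap R A)).mkQ := by
    rw [LinearMap.exact_iff, Submodule.ker_mkQ]
  obtain ⟨t, ht⟩ := ((lTensor_exact E hex (Submodule.mkQ_surjective _)) (p.e.symm z)).1 hz
  have key : ∀ t : E ⊗[R] R, ∃ x, b x = p.e ((Algebra.linearMap R A).lTensor E t) := by
    intro t
    induction t using TensorProduct.induction_on with
    | zero => exact ⟨0, by simp⟩
    | add t t' h h' =>
      obtain ⟨x, hx⟩ := h
      obtain ⟨x', hx'⟩ := h'
      exact ⟨x + x', by rw [map_add, hx, hx', map_add, map_add]⟩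
    | tmul x r =>
      refine ⟨r • x, ?_⟩
      rw [LinearMap.lTensor_tmul, Algebra.linearMap_apply, Algebra.algebraMap_eq_smul_one,
        ← TensorProduct.smul_tmul, p.left]
  obtain ⟨x, hx⟩ := key t
  exact ⟨x, by rw [hx, ht, p.e.apply_symm_apply]⟩

include p in
/-- If `R → A` is injective and `E` is flat then `E → B` is injective. -/
theorem injective_left [Module.Flat R E] (h : Function.Injective (algebraMap R A)) :
    Function.Injective b := by
  intro x y hxy
  have h1 : (Algebra.linearMap R A).lTensor E (x ⊗ₜ 1) = (Algebra.linearMap R A).lTensor E (y ⊗ₜ 1) := by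
    apply p.e.injective
    simpa [p.left] using hxy
  have h2 := Module.Flat.lTensor_preserves_injective_linearMap (M := E) (Algebra.linearMap R A) h h1
  have h3 := congrArg (TensorProduct.rid R E) h2
  simpa using h3

section

variable {E' B' : Type u} [CommRing E'] [CommRing B'] [Algebra R E'] {b' : E' →+* B'} {a' : A →+* B'}
  (p' : Po (R := R) b' a')

/-- The isomorphisms are natural. -/
theorem e_map (ε : E →ₐ[R] E') (φ : B →+* B') (h1 : ∀ x, φ (b x) = b' (ε x)) (h2 : ∀ y, φ (a y) = a' y)
    (z : E ⊗[R] A) : p'.e (ε.toLinearMap.rTensor A z) = φ (p.e z) := by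
  induction z using TensorProduct.induction_on with
  | zero => simp
  | add z w hz hw => rw [map_add, map_add, hz, hw, map_add, map_add]
  | tmul x y =>
    rw [p.map_tmul, map_mul, h1, h2, LinearMap.rTensor_tmul, p'.map_tmul]
    rfl

theorem e_smul (x : E) (z : E ⊗[R] A) : p.e (x • z) = b x * p.e z := by
  have : x • z = (x ⊗ₜ[R] (1 : A)) * z := by
    rw [Algebra.smul_def]
    rfl
  rw [this, map_mul, p.left]

theorem kap_map (ε : E →ₐ[R] E') (φ : B →+* B') (h1 : ∀ x, φ (b x) = b' (ε x)) (h2 : ∀ y, φ (a y) = a' y)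
    (z : B) : p'.kap (φ z) = ε.toLinearMap.rTensor _ (p.kap z) := by
  induction z using p.induction with
  | zero => rw [map_zero, kap_zero, kap_zero, map_zero]
  | add z w hz hw => rw [map_add, kap_add, hz, hw, kap_add, map_add]
  | mul x y =>
    rw [map_mul, h1, h2, p'.kap_tmul, p.kap_tmul, LinearMap.rTensor_tmul]
    rfl

end

end Po

end

/-- From a pushout square of commutative rings. -/
theorem nonempty_po {R E A B : CommRingCat.{u}} {α : R ⟶ E} {β : R ⟶ A} {b : E ⟶ B} {a : A ⟶ B}
    (sq : IsPushout α β b a) :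
    letI := α.hom.toAlgebra
    letI := β.hom.toAlgebra
    Nonempty (Po (R := R) b.hom a.hom) := by
  let := α.hom.toAlgebra
  let := β.hom.toAlgebra
  have h := CommRingCat.isPushout_tensorProduct R E A
  let i := h.isoIsPushout _ _ sq
  refine ⟨⟨i.commRingCatIsoToRingEquiv, fun x => ?_, fun y => ?_⟩⟩
  · exact congr($(h.inl_isoIsPushout_hom _ _ sq) x)
  · exact congr($(h.inr_isoIsPushout_hom _ _ sq) y)

end Groth.Agent.Pic13.H960.AAKap
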