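import Mathlib.AlgebraicGeometry.Morphisms.Flat
import Groth.Agent.Fdesc.LocGen
import Groth.Agent.Pic13.H960.AAKap

/-!
# Functions on flat base changes, as `AAKap.Po` data

`h : X ⟶ Y` qcqs, `τ : T ⟶ Y` flat, `XT = X ×_Y T`, `V ⊆ Y`, `Ω ⊆ T` affine, `Ω` over `V`.
`exists_po`: `Γ(XT, Ω) = Γ(T, Ω) ⊗_{Γ(Y, V)} Γ(X, V)`.
-/

set_option autoImplicit false
universe u
open CategoryTheory CategoryTheory.Limits AlgebraicGeometry TensorProduct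
open Groth.Agent.Fdesc.LocGen Groth.Agent.Pic13.H960.AAKap

namespace Groth.Agent.Pic13.H960.AAPush

variable {X Y T XT : Scheme.{u}}

/-- The `Γ(Y, V)`-algebra structure on `Γ(T, Ω)`. -/
@[reducible] noncomputable def alg (τ : T ⟶ Y) {V : Y.Opens} {Ω : T.Opens} (hΩ : Ω ≤ τ ⁻¹ᵁ V) :
    Algebra Γ(Y, V) Γ(T, Ω) := (τ.appLE V Ω hΩ).hom.toAlgebra

theorem flat_alg (τ : T ⟶ Y) [Flat τ] {V : Y.Opens} (hV : IsAffineOpen V) {Ω : T.Opens}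
    (hΩa : IsAffineOpen Ω) (hΩ : Ω ≤ τ ⁻¹ᵁ V) :
    @Module.Flat Γ(Y, V) Γ(T, Ω) _ _ (alg τ hΩ).toModule :=
  τ.flat_appLE hV hΩa hΩ

/-- `Γ(XT, Ω) = Γ(T, Ω) ⊗_{Γ(Y, V)} Γ(X, V)`. -/
theorem exists_po (h : X ⟶ Y) [QuasiCompact h] [QuasiSeparated h] (τ : T ⟶ Y) [Flat τ]
    {g : XT ⟶ X} {iT : XT ⟶ T} (sq : IsPullback g iT h τ) {V : Y.Opens} (hV : IsAffineOpen V)
    {Ω : T.Opens} (hΩa : IsAffineOpen Ω) (hΩ : Ω ≤ τ ⁻¹ᵁ V)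
    (hg : iT ⁻¹ᵁ Ω ≤ g ⁻¹ᵁ (h ⁻¹ᵁ V)) :
    letI := alg τ hΩ
    letI := alg h (le_refl (h ⁻¹ᵁ V))
    Nonempty (Po (R := Γ(Y, V)) (iT.app Ω).hom (g.appLE (h ⁻¹ᵁ V) (iT ⁻¹ᵁ Ω) hg).hom) := by
  have hUY : iT ⁻¹ᵁ Ω = g ⁻¹ᵁ (h ⁻¹ᵁ V) ⊓ iT ⁻¹ᵁ Ω := (inf_eq_right.mpr hg).symm
  have h1 : IsIso (pushoutSection sq hΩ (le_refl (h ⁻¹ᵁ V)) hUY) :=
    isIso_pushoutSection_of_isQuasiSeparated_of_flat_right sq hΩ (le_refl _) hUY hV hΩa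
      (h.isCompact_preimage hV.isCompact) (h.isQuasiSeparated_preimage hV.isQuasiSeparated)
  have h2 := (isIso_pushoutSection_iff sq hΩ (le_refl (h ⁻¹ᵁ V)) hUY).1 h1
  have h3 := nonempty_po h2.flip
  rw [Scheme.Hom.app_eq_appLE]
  exact h3

theorem preimage_le (h : X ⟶ Y) (τ : T ⟶ Y) {g : XT ⟶ X} {iT : XT ⟶ T} (w : g ≫ h = iT ≫ τ)
    {V : Y.Opens} {Ω : T.Opens} (hΩ : Ω ≤ τ ⁻¹ᵁ V) : iT ⁻¹ᵁ Ω ≤ g ⁻¹ᵁ (h ⁻¹ᵁ V) := by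
  rw [← Scheme.Hom.comp_preimage, w, Scheme.Hom.comp_preimage]
  exact iT.preimage_mono hΩ

/-! ### Normalising compositions of pullbacks of functions -/

theorem appLE_appLE {A B C : Scheme.{u}} (f : A ⟶ B) (g : B ⟶ C) {W : C.Opens} {U : B.Opens} {V : A.Opens}
    (e₁ : V ≤ f ⁻¹ᵁ U) (e₂ : U ≤ g ⁻¹ᵁ W) (a : Γ(C, W)) :
    (f.appLE U V e₁).hom ((g.appLE W U e₂).hom a) =
      ((f ≫ g).appLE W V (e₁.trans (f.preimage_mono e₂))).hom a := by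
  rw [← CommRingCat.comp_apply, Scheme.Hom.appLE_comp_appLE]

theorem app_hom {A B : Scheme.{u}} (f : A ⟶ B) {U : B.Opens} (a : Γ(B, U)) :
    (f.app U).hom a = (f.appLE U (f ⁻¹ᵁ U) le_rfl).hom a := by
  rw [Scheme.Hom.app_eq_appLE]

theorem appLE_square {A B B' C : Scheme.{u}} {f : A ⟶ B} {g : B ⟶ C} {f' : A ⟶ B'} {g' : B' ⟶ C}
    (w : f ≫ g = f' ≫ g') {W : C.Opens} {U : B.Opens} {U' : B'.Opens} {V : A.Opens}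
    (e₁ : V ≤ f ⁻¹ᵁ U) (e₂ : U ≤ g ⁻¹ᵁ W) (e₁' : V ≤ f' ⁻¹ᵁ U') (e₂' : U' ≤ g' ⁻¹ᵁ W) (a : Γ(C, W)) :
    (f.appLE U V e₁).hom ((g.appLE W U e₂).hom a) =
      (f'.appLE U' V e₁').hom ((g'.appLE W U' e₂').hom a) := by
  have h1 : ∀ (h : A ⟶ C) (_ : h = f' ≫ g') (e : V ≤ h ⁻¹ᵁ W), (h.appLE W V e).hom a =
      (f'.appLE U' V e₁').hom ((g'.appLE W U' e₂').hom a) := by
    rintro h rfl e
    rw [appLE_appLE]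
  rw [appLE_appLE]
  exact h1 _ w _

theorem appLE_comp_eq {A B C : Scheme.{u}} {f : A ⟶ B} {g : B ⟶ C} {h : A ⟶ C}
    (w : f ≫ g = h) {W : C.Opens} {U : B.Opens} {V : A.Opens}
    (e₁ : V ≤ f ⁻¹ᵁ U) (e₂ : U ≤ g ⁻¹ᵁ W) (e : V ≤ h ⁻¹ᵁ W) (a : Γ(C, W)) :
    (f.appLE U V e₁).hom ((g.appLE W U e₂).hom a) = (h.appLE W V e).hom a := by
  subst w
  rw [appLE_appLE]

theorem id_appLE_hom {A : Scheme.{u}} {U V : A.Opens} (h : V ≤ (𝟙 A : A ⟶ A) ⁻¹ᵁ U) (h' : V ≤ U)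
    (a : Γ(A, U)) : ((𝟙 A : A ⟶ A).appLE U V h).hom a = ores h' a := by
  have h1 : (𝟙 A : A ⟶ A).appLE U V h = A.presheaf.map (homOfLE h').op := by
    refine (congrArg (· ≫ A.presheaf.map (homOfLE h').op) (Scheme.Hom.id_app U)).trans ?_
    exact Category.id_comp _
  rw [h1]
  rfl

theorem ores_appLE {A B : Scheme.{u}} (f : A ⟶ B) {U : B.Opens} {V W : A.Opens} (e : V ≤ f ⁻¹ᵁ U)
    (hW : W ≤ V) (a : Γ(B, U)) :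
    ores hW ((f.appLE U V e).hom a) = (f.appLE U W (hW.trans e)).hom a :=
  congr($(Scheme.Hom.appLE_map f e (homOfLE hW).op) a)

theorem appLE_ores {A B : Scheme.{u}} (f : A ⟶ B) {U U' : B.Opens} {V : A.Opens} (e : V ≤ f ⁻¹ᵁ U)
    (hU : U ≤ U') (a : Γ(B, U')) :
    (f.appLE U V e).hom (ores hU a) = (f.appLE U' V (e.trans (f.preimage_mono hU))).hom a :=
  congr($(Scheme.Hom.map_appLE f e (homOfLE hU).op) a)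

theorem appLE_congr_hom {A B : Scheme.{u}} {f g : A ⟶ B} (hfg : f = g) {U : B.Opens} {V : A.Opens}
    (e : V ≤ f ⁻¹ᵁ U) (e' : V ≤ g ⁻¹ᵁ U) (a : Γ(B, U)) :
    (f.appLE U V e).hom a = (g.appLE U V e').hom a := by
  subst hfg
  rfl

/-- Morphisms over `Y` induce algebra homomorphisms. -/
noncomputable def algMap {T' : Scheme.{u}} {τ : T ⟶ Y} {τ' : T' ⟶ Y} (f : T' ⟶ T) (hf : f ≫ τ = τ')
    {V : Y.Opens} {Ω : T.Opens} {Ω' : T'.Opens} (hΩ : Ω ≤ τ ⁻¹ᵁ V) (hΩ' : Ω' ≤ τ' ⁻¹ᵁ V)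
    (hle : Ω' ≤ f ⁻¹ᵁ Ω) :
    letI := alg τ hΩ
    letI := alg τ' hΩ'
    Γ(T, Ω) →ₐ[Γ(Y, V)] Γ(T', Ω') :=
  letI := alg τ hΩ
  letI := alg τ' hΩ'
  { (f.appLE Ω Ω' hle).hom with
    commutes' := fun r => by
      change (f.appLE Ω Ω' hle).hom ((τ.appLE V Ω hΩ).hom r) = (τ'.appLE V Ω' hΩ').hom r
      subst hf
      rw [← CommRingCat.comp_apply, Scheme.Hom.appLE_comp_appLE] }

theorem algMap_apply {T' : Scheme.{u}} {τ : T ⟶ Y} {τ' : T' ⟶ Y} (f : T' ⟶ T) (hf : f ≫ τ = τ')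
    {V : Y.Opens} {Ω : T.Opens} {Ω' : T'.Opens} (hΩ : Ω ≤ τ ⁻¹ᵁ V) (hΩ' : Ω' ≤ τ' ⁻¹ᵁ V)
    (hle : Ω' ≤ f ⁻¹ᵁ Ω) (a : Γ(T, Ω)) :
    letI := alg τ hΩ
    letI := alg τ' hΩ'
    algMap f hf hΩ hΩ' hle a = (f.appLE Ω Ω' hle).hom a := rfl

/-- Restrictions as algebra homomorphisms. -/
noncomputable def algRes (τ : T ⟶ Y) {V : Y.Opens} {Ω Ω' : T.Opens} (hΩ : Ω ≤ τ ⁻¹ᵁ V)
    (hΩ' : Ω' ≤ τ ⁻¹ᵁ V) (hle : Ω' ≤ Ω) :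
    letI := alg τ hΩ
    letI := alg τ hΩ'
    Γ(T, Ω) →ₐ[Γ(Y, V)] Γ(T, Ω') :=
  letI := alg τ hΩ
  letI := alg τ hΩ'
  { ores hle with
    commutes' := fun r => by
      change ores hle ((τ.appLE V Ω hΩ).hom r) = (τ.appLE V Ω' hΩ').hom r
      rw [ores_appLE] }

end Groth.Agent.Pic13.H960.AAPush
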