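import Mathlib.AlgebraicGeometry.Morphisms.Proper
import Mathlib.AlgebraicGeometry.AlgClosed.Basic
import Groth.Agent.S1297
import Groth.Agent.Pic13.H960.AADev
import Groth.Agent.Pic13.H960.AAPush

/-!
# Units on `X × N` descending to `Y × N` locally, `N` with only constant functions
-/

set_option autoImplicit false
universe u
open CategoryTheory CategoryTheory.Limits AlgebraicGeometry TensorProduct TopologicalSpace
open Groth.Agent.Fdesc.LocGen Groth.Agent.Pic13.H960.AAKap Groth.Agent.Pic13.H960.AAPush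
open Groth.Agent.Pic13.H960.AADev

namespace Groth.Agent.Pic13.H960.AAGeo

/-- A torsor of units on the source of `H`, under the units of the target. -/
structure Tors {𝒳 𝒴 : Scheme.{u}} (H : 𝒳 ⟶ 𝒴) where
  Is : ∀ U : 𝒴.Opens, Γ(𝒳, H ⁻¹ᵁ U) → Prop
  res : ∀ {U W : 𝒴.Opens} (hWU : W ≤ U) (v : Γ(𝒳, H ⁻¹ᵁ U)), Is U v →
    Is W (ores (H.preimage_mono hWU) v)
  eq : ∀ {U : 𝒴.Opens} {v v' : Γ(𝒳, H ⁻¹ᵁ U)}, Is U v → Is U v' →
    ∃ g : Γ(𝒴, U), v' = (H.app U).hom g * v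
  cov : ∀ z : 𝒴, ∃ U : 𝒴.Opens, z ∈ U ∧ ∃ v, Is U v
  unit : ∀ {U : 𝒴.Opens} {v : Γ(𝒳, H ⁻¹ᵁ U)}, Is U v → IsUnit v

variable {X Y 𝒳 𝒴 : Scheme.{u}} {h : X ⟶ Y} (q : 𝒴 ⟶ Y) {q' : 𝒳 ⟶ X} {H : 𝒳 ⟶ 𝒴}
  (T : Tors H) (eY : Y ⟶ 𝒴) (V : Y.Opens)

/-- A chart over `V`. -/
structure Chart where
  Ω : 𝒴.Opens
  aff : IsAffineOpen Ω
  le : Ω ≤ q ⁻¹ᵁ V
  v : Γ(𝒳, H ⁻¹ᵁ Ω)
  is : T.Is Ω v

/-- An arrow between charts. -/
structure Arr where
  src : Chart q T V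
  tgt : Chart q T V
  le : tgt.Ω ≤ src.Ω
  g : Γ(𝒴, tgt.Ω)
  eq : tgt.v = (H.app tgt.Ω).hom g * ores (H.preimage_mono le) src.v

/-- An evaluation. -/
structure Ev where
  pt : Chart q T V
  U : Y.Opens
  aff : IsAffineOpen U
  le : U ≤ eY ⁻¹ᵁ pt.Ω

variable {q T eY V}

theorem Ev.leV (heY : eY ≫ q = 𝟙 Y) (j : Ev q T eY V) : j.U ≤ (𝟙 Y) ⁻¹ᵁ V := by
  rw [← heY, Scheme.Hom.comp_preimage]
  exact j.le.trans (eY.preimage_mono j.pt.le)

/-- The restriction of a chart. -/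
noncomputable def Chart.restr (i : Chart q T V) {W : 𝒴.Opens} (hW : IsAffineOpen W) (hle : W ≤ i.Ω) : Chart q T V :=
  ⟨W, hW, hle.trans i.le, ores (H.preimage_mono hle) i.v, T.res hle i.v i.is⟩

theorem exists_arr (i j : Chart q T V) (hle : j.Ω ≤ i.Ω) : ∃ κ : Arr q T V, κ.src = i ∧ κ.tgt = j := by
  obtain ⟨g, hg⟩ := T.eq (T.res hle i.v i.is) j.is
  exact ⟨⟨i, j, hle, g, hg⟩, rfl, rfl⟩

theorem exists_chart {z : 𝒴} (hz : z ∈ q ⁻¹ᵁ V) : ∃ i : Chart q T V, z ∈ i.Ω := by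
  obtain ⟨U, hzU, v, hv⟩ := T.cov z
  obtain ⟨W, hW, hzW, hWU⟩ := exists_isAffineOpen_mem_and_subset
    (show z ∈ U ⊓ (q ⁻¹ᵁ V) from ⟨hzU, hz⟩)
  have h1 : W ≤ U := fun x hx => (hWU hx).1
  have h2 : W ≤ q ⁻¹ᵁ V := fun x hx => (hWU hx).2
  exact ⟨⟨W, hW, h2, ores (H.preimage_mono h1) v, T.res h1 v hv⟩, hzW⟩

variable (q T eY V)

/-- The system of charts over `V`. -/
noncomputable def sys [Flat q] (heY : eY ≫ q = 𝟙 Y) (hV : IsAffineOpen V) : Sys.{u, u} Γ(Y, V) where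
  I := Chart q T V
  E i := Γ(𝒴, i.Ω)
  ringE := fun _ => inferInstance
  algE i := alg q i.le
  flatE i := flat_alg q hV i.aff i.le
  K := Arr q T V
  src := Arr.src
  tgt := Arr.tgt
  ρ κ := algRes q κ.src.le κ.tgt.le κ.le
  g := Arr.g
  J := Ev q T eY V
  pt := Ev.pt
  D j := Γ(Y, j.U)
  ringD := fun _ => inferInstance
  algD j := alg (𝟙 Y) (j.leV heY)
  flatD j := flat_alg (𝟙 Y) hV j.aff (j.leV heY)
  ε j := algMap eY heY j.pt.le (j.leV heY) j.le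

section compat

variable [Flat q] (heY : eY ≫ q = 𝟙 Y) (hV : IsAffineOpen V) [QuasiCompact h] [QuasiSeparated h]
  (sqH : IsPullback q' H h q)

/-- `A / R`. -/
abbrev QM (h : X ⟶ Y) (V : Y.Opens) : Type u :=
  letI := alg h (le_refl (h ⁻¹ᵁ V))
  Γ(X, h ⁻¹ᵁ V) ⧸ LinearMap.range (Algebra.linearMap Γ(Y, V) Γ(X, h ⁻¹ᵁ V))

/-- The pushout data of a chart. -/
noncomputable def po (i : Chart q T V) :
    letI := alg q i.le
    letI := alg h (le_refl (h ⁻¹ᵁ V))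
    Po (R := Γ(Y, V)) (H.app i.Ω).hom
      (q'.appLE (h ⁻¹ᵁ V) (H ⁻¹ᵁ i.Ω) (preimage_le h q sqH.w i.le)).hom :=
  (exists_po h q sqH hV i.aff i.le _).some

/-- The family of classes of the units. -/
noncomputable def fam (i : Chart q T V) :
    letI := alg q i.le
    Γ(𝒴, i.Ω) ⊗[Γ(Y, V)] QM h V :=
  letI := alg q i.le
  letI := alg h (le_refl (h ⁻¹ᵁ V))
  (po q T V hV sqH i).kap i.v

theorem compat_fam : Compat (sys q T eY V heY hV) (QM h V) (fun i => fam q T V hV sqH i) := by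
  let := alg h (le_refl (h ⁻¹ᵁ V))
  intro (κ : Arr q T V)
  let := alg q κ.src.le
  let := alg q κ.tgt.le
  change (po q T V hV sqH κ.tgt).kap κ.tgt.v = κ.g •
    (algRes q κ.src.le κ.tgt.le κ.le).toLinearMap.rTensor _
      ((po q T V hV sqH κ.src).kap κ.src.v)
  rw [κ.eq, Po.kap_mul]
  congr 1
  refine Po.kap_map (po q T V hV sqH κ.src) (po q T V hV sqH κ.tgt) _ (ores (H.preimage_mono κ.le))
    (fun x => ?_) (fun y => ?_) κ.src.v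
  · change ores (H.preimage_mono κ.le) ((H.app κ.src.Ω).hom x) =
      (H.app κ.tgt.Ω).hom (ores κ.le x)
    rw [app_hom, app_hom, ores_appLE, appLE_ores]
  · change ores (H.preimage_mono κ.le) ((q'.appLE (h ⁻¹ᵁ V) (H ⁻¹ᵁ κ.src.Ω) _).hom y) =
      (q'.appLE (h ⁻¹ᵁ V) (H ⁻¹ᵁ κ.tgt.Ω) _).hom y
    rw [ores_appLE]

include heY in
theorem van_fam (eX : X ⟶ 𝒳) (heX : eX ≫ q' = 𝟙 X) (w : eX ≫ H = h ≫ eY)
    (hev : ∀ (U : 𝒴.Opens) (v : Γ(𝒳, H ⁻¹ᵁ U)), T.Is U v → ∀ (W : Y.Opens) (_ : W ≤ eY ⁻¹ᵁ U)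
      (hW' : h ⁻¹ᵁ W ≤ eX ⁻¹ᵁ (H ⁻¹ᵁ U)), ∃ b : Γ(Y, W), (eX.appLE (H ⁻¹ᵁ U) (h ⁻¹ᵁ W) hW').hom v =
        (h.app W).hom b) :
    Van (sys q T eY V heY hV) (QM h V) (fun i => fam q T V hV sqH i) := by
  let := alg h (le_refl (h ⁻¹ᵁ V))
  intro (j : Ev q T eY V)
  let := alg q j.pt.le
  let := alg (𝟙 Y) (j.leV heY)
  have hle : h ⁻¹ᵁ j.U ≤ (𝟙 X) ⁻¹ᵁ (h ⁻¹ᵁ V) := h.preimage_mono (j.leV heY)
  have hle' : h ⁻¹ᵁ j.U ≤ eX ⁻¹ᵁ (H ⁻¹ᵁ j.pt.Ω) := by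
    rw [← Scheme.Hom.comp_preimage, w, Scheme.Hom.comp_preimage]
    exact h.preimage_mono j.le
  obtain ⟨P⟩ := exists_po h (𝟙 Y) (IsPullback.of_horiz_isIso ⟨by rw [Category.id_comp, Category.comp_id]⟩ :
    IsPullback (𝟙 X) h h (𝟙 Y)) hV j.aff (j.leV heY) hle
  change (algMap eY heY j.pt.le (j.leV heY) j.le).toLinearMap.rTensor _
      ((po q T V hV sqH j.pt).kap j.pt.v) = 0
  rw [← Po.kap_map (po q T V hV sqH j.pt) P _ (eX.appLE (H ⁻¹ᵁ j.pt.Ω) (h ⁻¹ᵁ j.U) hle').hom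
    (fun x => ?_) (fun y => ?_)]
  · obtain ⟨b, hb⟩ := hev j.pt.Ω j.pt.v j.pt.is j.U j.le hle'
    rw [hb, Po.kap_left]
  · change (eX.appLE (H ⁻¹ᵁ j.pt.Ω) (h ⁻¹ᵁ j.U) hle').hom ((H.app j.pt.Ω).hom x) =
      (h.app j.U).hom ((eY.appLE j.pt.Ω j.U j.le).hom x)
    rw [app_hom, app_hom, appLE_appLE, appLE_appLE]
    exact appLE_congr_hom w _ _ _
  · change (eX.appLE (H ⁻¹ᵁ j.pt.Ω) (h ⁻¹ᵁ j.U) hle').hom ((q'.appLE (h ⁻¹ᵁ V) (H ⁻¹ᵁ j.pt.Ω) _).hom y) =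
      ((𝟙 X : X ⟶ X).appLE (h ⁻¹ᵁ V) (h ⁻¹ᵁ j.U) hle).hom y
    rw [appLE_appLE]
    exact appLE_congr_hom heX _ _ _

end compat

section point

variable [Flat q] (heY : eY ≫ q = 𝟙 Y) (hV : IsAffineOpen V)
  {S N : Scheme.{u}} {p : Y ⟶ S} {n : N ⟶ S} {r : 𝒴 ⟶ N} (sqN : IsPullback q r p n)
  (eN : S ⟶ N) (heN : eN ≫ n = 𝟙 S) (heY' : eY ≫ r = p ≫ eN) (sqH : IsPullback q' H h q)

include heY heN heY' sqH sqN hV in
/-- Compatible families at a closed point of the base, vanishing along the section, are zero. -/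
theorem point_core [Subsingleton S] [Nonempty S] (hN : Function.Surjective n.appTop.hom)
    (y : S ⟶ Y) [QuasiCompact y] [QuasiSeparated y] (hy : y ≫ p = 𝟙 S) (x : S ⟶ X) (hx : x ≫ h = y)
    (hyV : ∀ s : S, y s ∈ V)
    (s : ∀ i : Chart q T V,
      letI := alg q i.le
      letI := alg y (le_refl (y ⁻¹ᵁ V))
      Γ(𝒴, i.Ω) ⊗[Γ(Y, V)] Γ(S, y ⁻¹ᵁ V))
    (hc : ∀ κ : Arr q T V,
      letI := alg q κ.src.le
      letI := alg q κ.tgt.le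
      letI := alg y (le_refl (y ⁻¹ᵁ V))
      s κ.tgt = κ.g • (algRes q κ.src.le κ.tgt.le κ.le).toLinearMap.rTensor _ (s κ.src))
    (hv : ∀ j : Ev q T eY V,
      letI := alg q j.pt.le
      letI := alg (𝟙 Y) (j.leV heY)
      letI := alg y (le_refl (y ⁻¹ᵁ V))
      (algMap eY heY j.pt.le (j.leV heY) j.le).toLinearMap.rTensor _ (s j.pt) = 0)
    (i : Chart q T V) : s i = 0 := by
  let := alg y (le_refl (y ⁻¹ᵁ V))
  -- the fibre over `y`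
  let ι : N ⟶ 𝒴 := sqN.lift (n ≫ y) (𝟙 N) (by rw [Category.assoc, hy, Category.comp_id, Category.id_comp])
  have hι1 : ι ≫ q = n ≫ y := sqN.lift_fst _ _ _
  have hι2 : ι ≫ r = 𝟙 N := sqN.lift_snd _ _ _
  have sqy : IsPullback n ι y q := by
    refine (IsPullback.of_right (h₁₂ := r) (h₂₂ := p) (v₁₃ := n) ?_ hι1 sqN.flip).flip
    rw [hι2, hy]
    exact IsPullback.of_horiz_isIso ⟨by rw [Category.id_comp, Category.comp_id]⟩
  have hιx : (n ≫ x) ≫ h = ι ≫ q := by rw [hι1, Category.assoc, hx]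
  let ιx : N ⟶ 𝒳 := sqH.lift (n ≫ x) ι hιx
  have hιx2 : ιx ≫ H = ι := sqH.lift_snd _ _ _
  have hle0 : ∀ i : Chart q T V, ι ⁻¹ᵁ i.Ω ≤ n ⁻¹ᵁ (y ⁻¹ᵁ V) := fun i => preimage_le y q sqy.w i.le
  have hlex : ∀ i : Chart q T V, ι ⁻¹ᵁ i.Ω ≤ ιx ⁻¹ᵁ (H ⁻¹ᵁ i.Ω) := fun i => by
    rw [← Scheme.Hom.comp_preimage, hιx2]
  have hP : ∀ i : Chart q T V,
      letI := alg q i.le
      Nonempty (Po (R := Γ(Y, V)) (ι.app i.Ω).hom (n.appLE (y ⁻¹ᵁ V) (ι ⁻¹ᵁ i.Ω) (hle0 i)).hom) :=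
    fun i => exists_po y q sqy hV i.aff i.le (hle0 i)
  let P := fun i : Chart q T V => (hP i).some
  -- the values
  let a : ∀ i : Chart q T V, Γ(N, ι ⁻¹ᵁ i.Ω) := fun i =>
    letI := alg q i.le
    (P i).e (s i)
  let u : ∀ i : Chart q T V, Γ(N, ι ⁻¹ᵁ i.Ω) := fun i => (ιx.appLE (H ⁻¹ᵁ i.Ω) (ι ⁻¹ᵁ i.Ω) (hlex i)).hom i.v
  have hu : ∀ i, IsUnit (u i) := fun i => (T.unit i.is).map _
  have hφ : ∀ i, ∃ b : Γ(N, ι ⁻¹ᵁ i.Ω), b * u i = a i := fun i => by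
    obtain ⟨c, hc⟩ := (hu i).exists_left_inv
    exact ⟨a i * c, by rw [mul_assoc, hc, mul_one]⟩
  choose φ hφ using hφ
  have harr : ∀ (κ : Arr q T V) (hle : ι ⁻¹ᵁ κ.tgt.Ω ≤ ι ⁻¹ᵁ κ.src.Ω), ores hle (φ κ.src) = φ κ.tgt := by
    intro κ hle
    let := alg q κ.src.le
    let := alg q κ.tgt.le
    apply (hu κ.tgt).mul_right_cancel
    have h1 : u κ.tgt = (ι.app κ.tgt.Ω).hom κ.g * ores hle (u κ.src) := by
      change (ιx.appLE (H ⁻¹ᵁ κ.tgt.Ω) (ι ⁻¹ᵁ κ.tgt.Ω) (hlex κ.tgt)).hom κ.tgt.v = _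
      rw [κ.eq, map_mul, app_hom, app_hom, appLE_appLE, appLE_ores]
      congr 1
      · exact appLE_congr_hom hιx2 _ _ _
      · change _ = ores hle ((ιx.appLE (H ⁻¹ᵁ κ.src.Ω) (ι ⁻¹ᵁ κ.src.Ω) (hlex κ.src)).hom κ.src.v)
        rw [ores_appLE]
    have h2 : a κ.tgt = (ι.app κ.tgt.Ω).hom κ.g * ores hle (a κ.src) := by
      change (P κ.tgt).e (s κ.tgt) = _
      rw [hc κ, Po.e_smul, Po.e_map (P κ.src) (P κ.tgt) _ (ores hle)]
      · intro z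
        change ores hle ((ι.app κ.src.Ω).hom z) = (ι.app κ.tgt.Ω).hom (ores κ.le z)
        rw [app_hom, app_hom, ores_appLE, appLE_ores]
      · intro z
        rw [ores_appLE]
    rw [hφ κ.tgt, h1, h2, ← hφ κ.src, map_mul]
    ring
  -- glue
  have hcov : (⊤ : N.Opens) ≤ ⨆ i : Chart q T V, ι ⁻¹ᵁ i.Ω := by
    intro z _
    have hz : ι z ∈ q ⁻¹ᵁ V := by
      change q (ι z) ∈ V
      rw [← Scheme.Hom.comp_apply, hι1, Scheme.Hom.comp_apply]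
      exact hyV _
    obtain ⟨i, hi⟩ := exists_chart (T := T) hz
    exact Opens.mem_iSup.mpr ⟨i, hi⟩
  obtain ⟨Φ, hΦ⟩ := ores_glue (fun i : Chart q T V => ι ⁻¹ᵁ i.Ω) (fun i => le_top) hcov φ (by
    intro i j
    let J := {W : 𝒴.affineOpens // (W : 𝒴.Opens) ≤ i.Ω ⊓ j.Ω}
    refine ores_ext (fun W : J => ι ⁻¹ᵁ (W.1 : 𝒴.Opens))
      (fun W => le_inf (ι.preimage_mono (W.2.trans inf_le_left))
        (ι.preimage_mono (W.2.trans inf_le_right))) ?_ fun W => ?_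
    · intro z hz
      obtain ⟨W, hW, hzW, hWU⟩ := exists_isAffineOpen_mem_and_subset
        (show ι z ∈ i.Ω ⊓ j.Ω from hz)
      exact Opens.mem_iSup.mpr ⟨⟨⟨W, hW⟩, hWU⟩, hzW⟩
    · have hWi : (W.1 : 𝒴.Opens) ≤ i.Ω := W.2.trans inf_le_left
      have hWj : (W.1 : 𝒴.Opens) ≤ j.Ω := W.2.trans inf_le_right
      have key : ∀ (i l : Chart q T V) (hle : l.Ω ≤ i.Ω), ores (ι.preimage_mono hle) (φ i) = φ l := by
        intro i l hle
        obtain ⟨κ, rfl, rfl⟩ := exists_arr i l hle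
        exact harr κ _
      rw [ores_ores, ores_ores]
      exact (key i (i.restr W.1.2 hWi) hWi).trans (key j (i.restr W.1.2 hWi) hWj).symm)
  -- constant
  obtain ⟨c, hcΦ⟩ := hN Φ
  have hc0 : c = 0 := by
    obtain ⟨z⟩ := (inferInstance : Nonempty S)
    have hz : eY (y z) ∈ q ⁻¹ᵁ V := by
      change q (eY (y z)) ∈ V
      rw [← Scheme.Hom.comp_apply, heY]
      exact hyV z
    obtain ⟨i, hi⟩ := exists_chart (T := T) hz
    obtain ⟨U, hU, hzU, hUi⟩ := exists_isAffineOpen_mem_and_subset (show y z ∈ eY ⁻¹ᵁ i.Ω from hi)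
    let j : Ev q T eY V := ⟨i, U, hU, hUi⟩
    have hyU : y ⁻¹ᵁ U = ⊤ := by
      ext w
      simp only [Opens.coe_top, Set.mem_univ, iff_true]
      rw [Subsingleton.elim w z]
      exact hzU
    have hleU : y ⁻¹ᵁ U ≤ (𝟙 S) ⁻¹ᵁ (y ⁻¹ᵁ V) := y.preimage_mono (j.leV heY)
    have weN : eN ≫ ι = y ≫ eY := by
      apply sqN.hom_ext
      · rw [Category.assoc, hι1, reassoc_of% heN, Category.assoc, heY, Category.comp_id]
      · rw [Category.assoc, hι2, Category.comp_id, Category.assoc, heY', reassoc_of% hy]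
    have hleN : y ⁻¹ᵁ U ≤ eN ⁻¹ᵁ (ι ⁻¹ᵁ i.Ω) := by
      rw [← Scheme.Hom.comp_preimage, weN, Scheme.Hom.comp_preimage]
      exact y.preimage_mono hUi
    let := alg q i.le
    let := alg (𝟙 Y) (j.leV heY)
    obtain ⟨P'⟩ := exists_po y (𝟙 Y) (IsPullback.of_horiz_isIso
      ⟨by rw [Category.id_comp, Category.comp_id]⟩ : IsPullback (𝟙 S) y y (𝟙 Y)) hV hU (j.leV heY) hleU
    have h1 : (eN.appLE (ι ⁻¹ᵁ i.Ω) (y ⁻¹ᵁ U) hleN).hom (a i) = 0 := by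
      have h2 := Po.e_map (P i) P' (algMap eY heY i.le (j.leV heY) hUi)
        (eN.appLE (ι ⁻¹ᵁ i.Ω) (y ⁻¹ᵁ U) hleN).hom (fun w => ?_) (fun w => ?_) (s i)
      · rw [hv j, map_zero] at h2
        exact h2.symm
      · change (eN.appLE (ι ⁻¹ᵁ i.Ω) (y ⁻¹ᵁ U) hleN).hom ((ι.app i.Ω).hom w) =
          (y.app U).hom ((eY.appLE i.Ω U hUi).hom w)
        rw [app_hom, app_hom]
        exact appLE_square weN _ _ _ _ _
      · exact appLE_comp_eq heN _ _ _ _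
    have h3 : (eN.appLE (ι ⁻¹ᵁ i.Ω) (y ⁻¹ᵁ U) hleN).hom (φ i) = 0 := by
      have h4 : IsUnit ((eN.appLE (ι ⁻¹ᵁ i.Ω) (y ⁻¹ᵁ U) hleN).hom (u i)) := (hu i).map _
      apply h4.mul_right_cancel
      rw [← map_mul, hφ i, h1, zero_mul]
    rw [← hΦ i, appLE_ores, ← hcΦ] at h3
    have h5 : ores (le_top : y ⁻¹ᵁ U ≤ ⊤) c = 0 := by
      rw [← h3, ← id_appLE_hom (show y ⁻¹ᵁ U ≤ (𝟙 S) ⁻¹ᵁ ⊤ from le_top) le_top c]
      change _ = (eN.appLE ⊤ (y ⁻¹ᵁ U) _).hom ((n.app ⊤).hom c)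
      rw [app_hom]
      exact (appLE_comp_eq heN _ _ _ _).symm
    refine ores_ext (fun _ : Unit => y ⁻¹ᵁ U) (fun _ => le_top) ?_ fun _ => ?_
    · rw [hyU]
      exact le_iSup (fun _ : Unit => (⊤ : S.Opens)) ()
    · rw [h5, map_zero]
  have hΦ0 : Φ = 0 := by rw [← hcΦ, hc0, map_zero]
  have h0 : a i = 0 := by rw [← hφ i, ← hΦ i, hΦ0, map_zero, zero_mul]
  let := alg q i.le
  exact (P i).e.injective (h0.trans (map_zero _).symm)

end point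

section main

variable {k : Type u} [Field k] [IsAlgClosed k] [Flat q]
  {N : Scheme.{u}} {p : Y ⟶ Spec (CommRingCat.of k)} [LocallyOfFiniteType p]
  {n : N ⟶ Spec (CommRingCat.of k)} {r : 𝒴 ⟶ N} (sqN : IsPullback q r p n)
  {eN : Spec (CommRingCat.of k) ⟶ N} (heN : eN ≫ n = 𝟙 _)
  (heY : eY ≫ q = 𝟙 Y) (heY' : eY ≫ r = p ≫ eN) (hV : IsAffineOpen V)
  (sqH : IsPullback q' H h q)

/-- The closed point of `Y` given by a maximal ideal of `Γ(Y, V)`. -/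
theorem exists_point {m : Ideal Γ(Y, V)} (hm : m.IsMaximal) :
    ∃ y : Spec (CommRingCat.of k) ⟶ Y, y ≫ p = 𝟙 _ ∧ (∀ s, y s ∈ V) ∧
      (∀ s, y s = hV.fromSpec ⟨m, hm.isPrime⟩) ∧
      ∀ a : Γ(Y, V), (y.app V).hom a = 0 ↔ a ∈ m := by
  have : JacobsonSpace Y := LocallyOfFiniteType.jacobsonSpace p
  have hcl : IsClosed {(hV.fromSpec ⟨m, hm.isPrime⟩ : Y)} := by
    have h1 : (⟨m, hm.isPrime⟩ : Spec Γ(Y, V)) ∈ closedPoints (Spec Γ(Y, V)) :=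
      (PrimeSpectrum.isClosed_singleton_iff_isMaximal _).2 hm
    rw [← hV.fromSpec.isOpenEmbedding.preimage_closedPoints] at h1
    exact h1
  have hmem : hV.fromSpec ⟨m, hm.isPrime⟩ ∈ V := by
    have h1 : hV.fromSpec ⟨m, hm.isPrime⟩ ∈ Set.range hV.fromSpec := ⟨_, rfl⟩
    rwa [hV.range_fromSpec] at h1
  obtain ⟨y, hyp, hy⟩ : ∃ y : Spec (CommRingCat.of k) ⟶ Y, y ≫ p = 𝟙 _ ∧
      ∀ s, y s = hV.fromSpec ⟨m, hm.isPrime⟩ :=
    ⟨pointOfClosedPoint p _ hcl, pointOfClosedPoint_comp p _ hcl, fun s => pointOfClosedPoint_apply _ _ _ s⟩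
  refine ⟨y, hyp, fun s => by rw [hy]; exact hmem, hy, fun a => ?_⟩
  rw [← basicOpen_eq_bot_iff]
  have h1 : (Spec (CommRingCat.of k)).basicOpen ((y.app V).hom a) = y ⁻¹ᵁ Y.basicOpen a :=
    (Scheme.preimage_basicOpen _ a).symm
  rw [h1]
  have h2 : hV.fromSpec ⟨m, hm.isPrime⟩ ∈ Y.basicOpen a ↔ a ∉ m := by
    have h3 := hV.fromSpec_preimage_basicOpen a
    have h4 : (⟨m, hm.isPrime⟩ : Spec Γ(Y, V)) ∈ hV.fromSpec ⁻¹ᵁ Y.basicOpen a ↔ a ∉ m := by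
      rw [h3]
      exact Iff.rfl
    exact h4
  constructor
  · intro h3
    by_contra h4
    obtain ⟨s⟩ : Nonempty (Spec (CommRingCat.of k)) := inferInstance
    have h5 : s ∈ y ⁻¹ᵁ Y.basicOpen a := by
      change y s ∈ Y.basicOpen a
      rw [hy s]
      exact h2.2 h4
    rw [h3] at h5
    exact h5
  · intro h3
    rw [eq_bot_iff]
    intro z hz
    have h4 : y z ∈ Y.basicOpen a := hz
    rw [hy z] at h4
    exact h2.1 h4 h3

include sqN heN heY' sqH in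
/-- The residue fields are good. -/
theorem good_residue [LocallyOfFiniteType h] [Surjective h] (hN : Function.Surjective n.appTop.hom)
    (m : Ideal Γ(Y, V)) (hm : m.IsMaximal) : Good (sys q T eY V heY hV) (Γ(Y, V) ⧸ m) := by
  obtain ⟨y, hyp, hyV, hy0, hker⟩ := exists_point (p := p) V hV hm
  have : IsClosedImmersion y := isClosedImmersion_of_comp_eq_id p y hyp
  -- the point of `X`
  obtain ⟨x, hx⟩ : ∃ x : Spec (CommRingCat.of k) ⟶ X, x ≫ h = y := by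
    have : JacobsonSpace X := LocallyOfFiniteType.jacobsonSpace (h ≫ p)
    let z : Spec (CommRingCat.of k) := IsLocalRing.closedPoint k
    have hcl : IsClosed {y z} := by
      have := y.isClosedEmbedding.isClosed_range
      rwa [Set.range_eq_singleton (y := y z) fun w => by rw [Subsingleton.elim w z]] at this
    obtain ⟨x₁, hx₁⟩ := h.surjective (y z)
    obtain ⟨x₀, hx₀, hx₀'⟩ := nonempty_inter_closedPoints (Z := h ⁻¹' {y z}) ⟨x₁, hx₁⟩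
      (hcl.preimage h.continuous).isLocallyClosed
    obtain ⟨x, hxp, hx⟩ : ∃ x : Spec (CommRingCat.of k) ⟶ X, x ≫ h ≫ p = 𝟙 _ ∧ ∀ s, x s = x₀ :=
      ⟨pointOfClosedPoint (h ≫ p) x₀ hx₀', pointOfClosedPoint_comp (h ≫ p) x₀ hx₀',
        fun s => pointOfClosedPoint_apply _ _ _ s⟩
    refine ⟨x, ?_⟩
    refine ext_of_apply_closedPoint_eq p (by rw [Category.assoc, hxp]) hyp ?_
    exact ((Scheme.Hom.comp_apply x h z).trans (congrArg h (hx z))).trans hx₀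
  have hgood : (letI := alg y (le_refl (y ⁻¹ᵁ V)); Good (sys q T eY V heY hV)
      Γ(Spec (CommRingCat.of k), y ⁻¹ᵁ V)) := by
    intro s hc hv
    exact point_core q T eY V heY hV sqN eN heN heY' sqH hN y hyp x hx hyV s hc hv
  let := alg y (le_refl (y ⁻¹ᵁ V))
  have hsurj : Function.Surjective (Algebra.linearMap Γ(Y, V) Γ(Spec (CommRingCat.of k), y ⁻¹ᵁ V)) := by
    have h1 := y.app_surjective V hV
    rw [Scheme.Hom.app_eq_appLE] at h1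
    exact h1
  have hk : LinearMap.ker (Algebra.linearMap Γ(Y, V) Γ(Spec (CommRingCat.of k), y ⁻¹ᵁ V)) = m := by
    ext a
    rw [LinearMap.mem_ker]
    change (y.appLE V (y ⁻¹ᵁ V) _).hom a = 0 ↔ a ∈ m
    rw [← Scheme.Hom.app_eq_appLE]
    exact hker a
  subst hk
  exact hgood.of_equiv ((Algebra.linearMap Γ(Y, V) Γ(Spec (CommRingCat.of k), y ⁻¹ᵁ V)).quotKerEquivOfSurjective
    hsurj)

omit [Flat q] [IsAlgClosed k] in
include p in
/-- Closed points of a chart lie over closed points of `V`. -/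
theorem isMaximal_comap [LocallyOfFiniteType q] (hV : IsAffineOpen V) (i : Chart q T V)
    (𝔫 : Ideal Γ(𝒴, i.Ω)) (h𝔫 : 𝔫.IsMaximal) : (𝔫.comap (q.appLE V i.Ω i.le).hom).IsMaximal := by
  have : JacobsonSpace Y := LocallyOfFiniteType.jacobsonSpace p
  have : JacobsonSpace 𝒴 := LocallyOfFiniteType.jacobsonSpace q
  let z : Spec Γ(𝒴, i.Ω) := ⟨𝔫, h𝔫.isPrime⟩
  have hz : z ∈ closedPoints (Spec Γ(𝒴, i.Ω)) := (PrimeSpectrum.isClosed_singleton_iff_isMaximal _).2 h𝔫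
  rw [← i.aff.fromSpec.isOpenEmbedding.preimage_closedPoints] at hz
  have h1 : q (i.aff.fromSpec z) ∈ closedPoints Y := q.closePoints_subset_preimage_closedPoints hz
  have h2 : hV.fromSpec (Spec.map (q.appLE V i.Ω i.le) z) = q (i.aff.fromSpec z) := by
    rw [← Scheme.Hom.comp_apply, ← Scheme.Hom.comp_apply, IsAffineOpen.SpecMap_appLE_fromSpec]
  have h3 : Spec.map (q.appLE V i.Ω i.le) z ∈ hV.fromSpec ⁻¹' closedPoints Y := by
    rw [Set.mem_preimage, h2]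
    exact h1
  rw [hV.fromSpec.isOpenEmbedding.preimage_closedPoints] at h3
  exact (PrimeSpectrum.isClosed_singleton_iff_isMaximal _).1 h3

theorem finite_app (h : X ⟶ Y) [IsProper h] [IsLocallyNoetherian Y] {V : Y.Opens} (hV : IsAffineOpen V) :
    (h.app V).hom.Finite := by
  have : IsNoetherianRing Γ(Y, V) := IsLocallyNoetherian.component_noetherian ⟨V, hV⟩
  have : IsAffine V.toScheme := hV
  have : IsNoetherianRing Γ(V, ⊤) := by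
    have : IsNoetherianRing Γ(Y, V.ι ''ᵁ ⊤) := by rwa [Scheme.Opens.ι_image_top]
    exact this
  have h1 := Groth.Agent.S1297.finite_appTop (h ∣_ V)
  rw [morphismRestrict_appTop] at h1
  have h1' := (RingHom.finite_respectsIso.{u}.cancel_right_isIso _ _).mp h1
  have e : V.ι ''ᵁ ⊤ = V := Scheme.Opens.ι_image_top V
  rwa [e] at h1'

include sqN heN heY heY' hV sqH in
/-- **Theorem AA, chart form.** -/
theorem exists_of_chart [LocallyOfFiniteType q] [IsProper h] [Surjective h]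
    (hN : Function.Surjective n.appTop.hom)
    (eX : X ⟶ 𝒳) (heX : eX ≫ q' = 𝟙 X) (w : eX ≫ H = h ≫ eY)
    (hev : ∀ (U : 𝒴.Opens) (v : Γ(𝒳, H ⁻¹ᵁ U)), T.Is U v → ∀ (W : Y.Opens) (_ : W ≤ eY ⁻¹ᵁ U)
      (hW' : h ⁻¹ᵁ W ≤ eX ⁻¹ᵁ (H ⁻¹ᵁ U)), ∃ b : Γ(Y, W), (eX.appLE (H ⁻¹ᵁ U) (h ⁻¹ᵁ W) hW').hom v =
        (h.app W).hom b)
    (i : Chart q T V) : ∃ b : Γ(𝒴, i.Ω), (H.app i.Ω).hom b = i.v := by
  have : IsLocallyNoetherian Y := LocallyOfFiniteType.isLocallyNoetherian p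
  have : IsLocallyNoetherian 𝒴 := LocallyOfFiniteType.isLocallyNoetherian q
  have : IsNoetherianRing Γ(Y, V) := IsLocallyNoetherian.component_noetherian ⟨V, hV⟩
  have hE : ∀ i : Chart q T V, IsNoetherianRing Γ(𝒴, i.Ω) := fun i =>
    IsLocallyNoetherian.component_noetherian ⟨i.Ω, i.aff⟩
  let := alg h (le_refl (h ⁻¹ᵁ V))
  have hfin : Module.Finite Γ(Y, V) Γ(X, h ⁻¹ᵁ V) := by
    have h1 := finite_app h hV
    rw [Scheme.Hom.app_eq_appLE] at h1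
    exact h1
  have h1 : Good (sys q T eY V heY hV) (QM h V) := by
    have : ∀ i, IsNoetherianRing ((sys q T eY V heY hV).E i) := hE
    refine good_of_finite (sys q T eY V heY hV) (fun i 𝔫 h𝔫 => ?_) (fun m hm => ?_)
    · exact isMaximal_comap q T V (p := p) hV i 𝔫 h𝔫
    · exact good_residue q T eY V sqN heN heY heY' hV sqH hN m hm
  let := alg q i.le
  have h2 := h1 (fun i => fam q T V hV sqH i) (compat_fam q T eY V heY hV sqH)
    (van_fam q T eY V heY hV sqH eX heX w hev) i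
  exact Po.exists_of_kap_eq_zero _ _ h2

end main

end Groth.Agent.Pic13.H960.AAGeo
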