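import Groth.Agent.Pic13.H960.AAGeo
import Groth.Agent.Fdesc.LocGenPullback

/-!
# Theorem AA for modules

`Y`, `X` proper over `k = k̄`, `h : X ⟶ Y` proper with `O_Y → h_* O_X` injective, `N` a `k`-scheme of finite type with
`Γ(N, O_N) = k` and a rational point; an invertible module on `Y × N` which is trivial on `Y × e` and whose pullback to
`X × N` is trivial, is trivial.
-/

set_option autoImplicit false
universe u
open CategoryTheory CategoryTheory.Limits AlgebraicGeometry TensorProduct TopologicalSpace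
open Groth.Agent.Fdesc.LocGen Groth.Agent.Pic13.H960.AAKap Groth.Agent.Pic13.H960.AAPush
open Groth.Agent.Pic13.H960.AADev Groth.Agent.Pic13.H960.AAGeo

namespace Groth.Agent.Pic13.H960.AAMod

/-- The coordinate of a global generator of the pullback. -/
theorem exists_coord {A B : Scheme.{u}} (f : A ⟶ B) {L : B.Modules}
    {t : Γ((Scheme.Modules.pullback f).obj L, (⊤ : A.Opens))} (ht : IsGen t) {U : B.Opens} {l : Γ(L, U)} (hl : IsGen l) :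
    ∃ a : Γ(A, f ⁻¹ᵁ U), IsUnit a ∧
      res ((Scheme.Modules.pullback f).obj L) (le_top : f ⁻¹ᵁ U ≤ ⊤) t = a • pullSec f l :=
  (hl.pullSec f).exists_unit (ht.res le_top)

theorem coord_change {A B : Scheme.{u}} (f : A ⟶ B) {L : B.Modules}
    {t : Γ((Scheme.Modules.pullback f).obj L, (⊤ : A.Opens))} {U U' : B.Opens} {l : Γ(L, U)} {l' : Γ(L, U')}
    (hl' : IsGen l') (hU : U' ≤ U) {g : Γ(B, U')} (hg : res L hU l = g • l')
    {a : Γ(A, f ⁻¹ᵁ U)} (ha : res ((Scheme.Modules.pullback f).obj L) (le_top : f ⁻¹ᵁ U ≤ ⊤) t = a • pullSec f l)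
    {a' : Γ(A, f ⁻¹ᵁ U')}
    (ha' : res ((Scheme.Modules.pullback f).obj L) (le_top : f ⁻¹ᵁ U' ≤ ⊤) t = a' • pullSec f l') :
    a' = (f.app U').hom g * ores (f.preimage_mono hU) a := by
  apply (hl'.pullSec f).ext
  rw [← ha', mul_comm, mul_smul, ← pullSec_smul, ← hg, ← res_pullSec, ← res_smul, ← ha, res_res]

theorem isUnit_of_app {A B : Scheme.{u}} (f : A ⟶ B) [Surjective f] {U : B.Opens} {b : Γ(B, U)}
    (hb : IsUnit ((f.app U).hom b)) : IsUnit b := by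
  have h1 : A.basicOpen ((f.app U).hom b) = f ⁻¹ᵁ U := Scheme.basicOpen_of_isUnit _ hb
  have h2 : f ⁻¹ᵁ B.basicOpen b = f ⁻¹ᵁ U := by
    rw [Scheme.preimage_basicOpen]; exact h1
  have h3 : B.basicOpen b = U := by
    ext z
    obtain ⟨w, rfl⟩ := f.surjective z
    exact Set.ext_iff.1 (congrArg (fun O : A.Opens => (O : Set A)) h2) w
  refine RingedSpace.isUnit_of_isUnit_germ (X := B.toLocallyRingedSpace.toRingedSpace) U b fun z hz => ?_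
  exact (Scheme.mem_basicOpen B b z hz).1 (h3.symm ▸ hz)

section

variable {X Y 𝒳 𝒴 : Scheme.{u}} {h : X ⟶ Y} {q : 𝒴 ⟶ Y} {q' : 𝒳 ⟶ X} {H : 𝒳 ⟶ 𝒴} {eY : Y ⟶ 𝒴}
  {eX : X ⟶ 𝒳}

/-- Normalise the trivialisation along the section. -/
theorem exists_normalised (heX : eX ≫ q' = 𝟙 X) (w : eX ≫ H = h ≫ eY) (L : 𝒴.Modules)
    (hL : PicF.IsInvertible L)
    (hH : Nonempty ((Scheme.Modules.pullback H).obj L ≅ Coh.structureModule 𝒳))
    (he : Nonempty ((Scheme.Modules.pullback eY).obj L ≅ Coh.structureModule Y)) :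
    ∃ t : Γ((Scheme.Modules.pullback H).obj L, (⊤ : 𝒳.Opens)), IsGen t ∧
      ∀ (U : 𝒴.Opens) (l : Γ(L, U)), IsGen l → ∀ v : Γ(𝒳, H ⁻¹ᵁ U),
        res ((Scheme.Modules.pullback H).obj L) (le_top : H ⁻¹ᵁ U ≤ ⊤) t = v • pullSec H l →
        ∃ b : Γ(Y, eY ⁻¹ᵁ U), ∀ hle : h ⁻¹ᵁ (eY ⁻¹ᵁ U) ≤ eX ⁻¹ᵁ (H ⁻¹ᵁ U),
          (eX.appLE (H ⁻¹ᵁ U) (h ⁻¹ᵁ (eY ⁻¹ᵁ U)) hle).hom v = (h.app (eY ⁻¹ᵁ U)).hom b := by
  obtain ⟨φH⟩ := hH
  obtain ⟨φe⟩ := he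
  let t' : Γ((Scheme.Modules.pullback H).obj L, (⊤ : 𝒳.Opens)) := φH.inv.app ⊤ (one ⊤)
  have ht' : IsGen t' := (isGen_one ⊤).app φH.inv
  let w' : Γ((Scheme.Modules.pullback eY).obj L, (⊤ : Y.Opens)) := φe.inv.app ⊤ (one ⊤)
  have hw' : IsGen w' := (isGen_one ⊤).app φe.inv
  let I := Σ U : 𝒴.Opens, {l : Γ(L, U) // IsGen l}
  have hle : ∀ U : 𝒴.Opens, h ⁻¹ᵁ (eY ⁻¹ᵁ U) ≤ eX ⁻¹ᵁ (H ⁻¹ᵁ U) := fun U => by
    rw [← Scheme.Hom.comp_preimage, ← Scheme.Hom.comp_preimage, w]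
  choose a hau ha using fun i : I => exists_coord H ht' i.2.2
  choose b hbu hb using fun i : I => exists_coord eY hw' i.2.2
  have hσ : ∀ i : I, ∃ s : Γ(X, h ⁻¹ᵁ (eY ⁻¹ᵁ i.1)), IsUnit s ∧
      s * (eX.appLE (H ⁻¹ᵁ i.1) (h ⁻¹ᵁ (eY ⁻¹ᵁ i.1)) (hle i.1)).hom (a i) = (h.app (eY ⁻¹ᵁ i.1)).hom (b i) := by
    intro i
    have h1 : IsUnit ((eX.appLE (H ⁻¹ᵁ i.1) (h ⁻¹ᵁ (eY ⁻¹ᵁ i.1)) (hle i.1)).hom (a i)) := (hau i).map _
    obtain ⟨c, hc⟩ := h1.exists_left_inv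
    refine ⟨(h.app (eY ⁻¹ᵁ i.1)).hom (b i) * c, ?_, by rw [mul_assoc, hc, mul_one]⟩
    exact ((hbu i).map _).mul (IsUnit.of_mul_eq_one _ hc)
  choose σ hσu hσ using hσ
  have key : ∀ (i l : I) (hU : l.1 ≤ i.1), ores (h.preimage_mono (eY.preimage_mono hU)) (σ i) = σ l := by
    intro i l hU
    obtain ⟨g, hg⟩ := l.2.2.exists_eq (Fdesc.LocGen.res L hU i.2.1)
    have ha' := coord_change H l.2.2 hU hg (ha i) (ha l)
    have hb' := coord_change eY l.2.2 hU hg (hb i) (hb l)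
    have h1 : IsUnit ((eX.appLE (H ⁻¹ᵁ l.1) (h ⁻¹ᵁ (eY ⁻¹ᵁ l.1)) (hle l.1)).hom (a l)) := (hau l).map _
    apply h1.mul_right_cancel
    rw [hσ l, ha', hb', map_mul, map_mul]
    have h2 : (eX.appLE (H ⁻¹ᵁ l.1) (h ⁻¹ᵁ (eY ⁻¹ᵁ l.1)) (hle l.1)).hom ((H.app l.1).hom g) =
        (h.app (eY ⁻¹ᵁ l.1)).hom ((eY.app l.1).hom g) := by
      rw [app_hom, app_hom, app_hom]
      exact appLE_square w _ _ _ _ _
    have h3 : (eX.appLE (H ⁻¹ᵁ l.1) (h ⁻¹ᵁ (eY ⁻¹ᵁ l.1)) (hle l.1)).hom (ores (H.preimage_mono hU) (a i)) =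
        ores (h.preimage_mono (eY.preimage_mono hU))
          ((eX.appLE (H ⁻¹ᵁ i.1) (h ⁻¹ᵁ (eY ⁻¹ᵁ i.1)) (hle i.1)).hom (a i)) := by
      rw [appLE_ores, ores_appLE]
    have h4 : (h.app (eY ⁻¹ᵁ l.1)).hom (ores (eY.preimage_mono hU) (b i)) =
        ores (h.preimage_mono (eY.preimage_mono hU)) ((h.app (eY ⁻¹ᵁ i.1)).hom (b i)) := by
      rw [app_hom, app_hom, appLE_ores, ores_appLE]
    rw [h2, h3, h4, ← hσ i, map_mul]
    ring
  have hcov : (⊤ : X.Opens) ≤ ⨆ i : I, h ⁻¹ᵁ (eY ⁻¹ᵁ i.1) := by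
    intro z _
    obtain ⟨U, e, hzU, he⟩ := (isInvertible_iff L).1 hL (eY (h z))
    exact Opens.mem_iSup.mpr ⟨⟨U, e, he⟩, hzU⟩
  obtain ⟨τ₀, hτ₀⟩ := ores_glue (fun i : I => h ⁻¹ᵁ (eY ⁻¹ᵁ i.1)) (fun i => le_top) hcov σ (by
    intro i j
    let l : I := ⟨i.1 ⊓ j.1, Fdesc.LocGen.res L inf_le_left i.2.1, i.2.2.res inf_le_left⟩
    exact (key i l inf_le_left).trans (key j l inf_le_right).symm)
  have hτu : IsUnit τ₀ := by
    have h1 : IsGen (ofFun τ₀ : Γ(Coh.structureModule X, (⊤ : X.Opens))) := by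
      refine IsGen.of_cover (fun i : I => h ⁻¹ᵁ (eY ⁻¹ᵁ i.1)) (fun i => le_top) hcov fun i => ?_
      rw [res_ofFun, hτ₀ i, ofFun_eq_smul]
      exact (isGen_one _).unit_smul (hσu i)
    rw [ofFun_eq_smul] at h1
    exact (isGen_one _).isUnit_of_smul h1
  have hqu : IsUnit ((q'.appLE ⊤ ⊤ le_top).hom τ₀) := hτu.map _
  refine ⟨(q'.appLE ⊤ ⊤ le_top).hom τ₀ • t', ht'.unit_smul hqu, fun U l hl v hv => ?_⟩
  let i : I := ⟨U, l, hl⟩
  refine ⟨b i, fun hle' => ?_⟩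
  have h1 : v = ores (le_top : H ⁻¹ᵁ U ≤ ⊤) ((q'.appLE ⊤ ⊤ le_top).hom τ₀) * a i := by
    apply (hl.pullSec H).ext
    rw [← hv, res_smul, ha i, mul_smul]
  rw [h1, map_mul]
  have h2 : (eX.appLE (H ⁻¹ᵁ U) (h ⁻¹ᵁ (eY ⁻¹ᵁ U)) hle').hom
      (ores (le_top : H ⁻¹ᵁ U ≤ ⊤) ((q'.appLE ⊤ ⊤ le_top).hom τ₀)) = σ i := by
    rw [appLE_ores, ← hτ₀ i, ← id_appLE_hom (show h ⁻¹ᵁ (eY ⁻¹ᵁ U) ≤ (𝟙 X) ⁻¹ᵁ ⊤ from le_top) le_top τ₀]
    exact appLE_comp_eq heX _ _ _ _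
  rw [h2]
  exact hσ i

/-- Functions on the base inject after flat base change. -/
theorem app_injective [QuasiCompact h] [QuasiSeparated h] [Flat q] (sqH : IsPullback q' H h q)
    (hinj : ∀ V : Y.Opens, Function.Injective (h.app V).hom) (U : 𝒴.Opens) :
    Function.Injective (H.app U).hom := by
  intro a b hab
  let J := {VW : Y.affineOpens × 𝒴.affineOpens // (VW.2 : 𝒴.Opens) ≤ U ⊓ q ⁻¹ᵁ (VW.1 : Y.Opens)}
  refine ores_ext (fun j : J => (j.1.2 : 𝒴.Opens)) (fun j => j.2.trans inf_le_left) ?_ fun j => ?_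
  · intro z hz
    obtain ⟨V, hV, hzV, -⟩ := exists_isAffineOpen_mem_and_subset (show q z ∈ (⊤ : Y.Opens) from trivial)
    obtain ⟨W, hW, hzW, hWU⟩ := exists_isAffineOpen_mem_and_subset (show z ∈ U ⊓ q ⁻¹ᵁ V from ⟨hz, hzV⟩)
    exact Opens.mem_iSup.mpr ⟨⟨⟨⟨V, hV⟩, ⟨W, hW⟩⟩, hWU⟩, hzW⟩
  · obtain ⟨⟨⟨V, hV⟩, ⟨W, hW⟩⟩, hVW⟩ := j
    have hWU : W ≤ U := hVW.trans inf_le_left
    have hWq : W ≤ q ⁻¹ᵁ V := hVW.trans inf_le_right
    let := alg q hWq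
    let := alg h (le_refl (h ⁻¹ᵁ V))
    have hfl : Module.Flat Γ(Y, V) Γ(𝒴, W) := flat_alg q hV hW hWq
    obtain ⟨P⟩ := exists_po h q sqH hV hW hWq (preimage_le h q sqH.w hWq)
    have h1 : Function.Injective (algebraMap Γ(Y, V) Γ(X, h ⁻¹ᵁ V)) := by
      have := hinj V
      rw [Scheme.Hom.app_eq_appLE] at this
      exact this
    apply P.injective_left h1
    have h2 : ∀ c : Γ(𝒴, U), (H.app W).hom (ores hWU c) = ores (H.preimage_mono hWU) ((H.app U).hom c) := by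
      intro c
      rw [app_hom, app_hom, appLE_ores, ores_appLE]
    change (H.app W).hom (ores hWU a) = (H.app W).hom (ores hWU b)
    rw [h2, h2, hab]

/-- The torsor attached to a trivialisation of the pullback. -/
noncomputable def torsor {L : 𝒴.Modules} (hL : PicF.IsInvertible L)
    {t : Γ((Scheme.Modules.pullback H).obj L, (⊤ : 𝒳.Opens))} (ht : IsGen t) : Tors H where
  Is U v := ∃ l : Γ(L, U), IsGen l ∧
    res ((Scheme.Modules.pullback H).obj L) (le_top : H ⁻¹ᵁ U ≤ ⊤) t = v • pullSec H l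
  res := by
    rintro U W hWU v ⟨l, hl, hv⟩
    refine ⟨Fdesc.LocGen.res L hWU l, hl.res hWU, ?_⟩
    rw [← res_pullSec, ← res_smul, ← hv, res_res]
  eq := by
    rintro U v v' ⟨l, hl, hv⟩ ⟨l', hl', hv'⟩
    obtain ⟨g, hg⟩ := hl'.exists_eq l
    refine ⟨g, ?_⟩
    apply (hl'.pullSec H).ext
    rw [← hv', hv, mul_comm, mul_smul, ← pullSec_smul, ← hg]
  cov := by
    intro z
    obtain ⟨U, l, hzU, hl⟩ := (isInvertible_iff L).1 hL z
    obtain ⟨v, -, hv⟩ := exists_coord H ht hl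
    exact ⟨U, hzU, v, l, hl, hv⟩
  unit := by
    rintro U v ⟨l, hl, hv⟩
    refine (hl.pullSec H).isUnit_of_smul ?_
    rw [← hv]
    exact ht.res le_top

variable {k : Type u} [Field k] [IsAlgClosed k] [Flat q] [LocallyOfFiniteType q]
  {N : Scheme.{u}} {p : Y ⟶ Spec (CommRingCat.of k)} [LocallyOfFiniteType p]
  {n : N ⟶ Spec (CommRingCat.of k)} {r : 𝒴 ⟶ N} {eN : Spec (CommRingCat.of k) ⟶ N}

/-- **Theorem AA** for modules. -/
theorem nonempty_iso [IsProper h] [Surjective h] (sqN : IsPullback q r p n) (heN : eN ≫ n = 𝟙 _)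
    (heY : eY ≫ q = 𝟙 Y) (heY' : eY ≫ r = p ≫ eN) (sqH : IsPullback q' H h q)
    (heX : eX ≫ q' = 𝟙 X) (w : eX ≫ H = h ≫ eY)
    (hinj : ∀ V : Y.Opens, Function.Injective (h.app V).hom)
    (hN : Function.Surjective n.appTop.hom) (L : 𝒴.Modules) (hL : PicF.IsInvertible L)
    (hH : Nonempty ((Scheme.Modules.pullback H).obj L ≅ Coh.structureModule 𝒳))
    (he : Nonempty ((Scheme.Modules.pullback eY).obj L ≅ Coh.structureModule Y)) :
    Nonempty (L ≅ Coh.structureModule 𝒴) := by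
  obtain ⟨t, ht, hev⟩ := exists_normalised heX w L hL hH he
  have : Surjective H := MorphismProperty.of_isPullback sqH ‹Surjective h›
  let T : Tors H := torsor hL ht
  -- local sections
  have hloc : ∀ z : 𝒴, ∃ (U : 𝒴.Opens) (m : Γ(L, U)), z ∈ U ∧ IsGen m ∧
      res ((Scheme.Modules.pullback H).obj L) (le_top : H ⁻¹ᵁ U ≤ ⊤) t = pullSec H m := by
    intro z
    obtain ⟨V, hV, hzV, -⟩ := exists_isAffineOpen_mem_and_subset (show q z ∈ (⊤ : Y.Opens) from trivial)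
    obtain ⟨i, hi⟩ := exists_chart (T := T) (show z ∈ q ⁻¹ᵁ V from hzV)
    obtain ⟨b, hb⟩ := exists_of_chart q T eY V sqN heN heY heY' hV sqH hN eX heX w (by
      rintro U v ⟨l, hl, hv⟩ W hW hW'
      obtain ⟨b, hb⟩ := hev U l hl v hv
      have hle : h ⁻¹ᵁ (eY ⁻¹ᵁ U) ≤ eX ⁻¹ᵁ (H ⁻¹ᵁ U) := by
        rw [← Scheme.Hom.comp_preimage, ← Scheme.Hom.comp_preimage, w]
      refine ⟨ores hW b, ?_⟩
      have h1 : (h.app W).hom (ores hW b) = ores (h.preimage_mono hW) ((h.app (eY ⁻¹ᵁ U)).hom b) := by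
        rw [app_hom, app_hom, appLE_ores, ores_appLE]
      rw [h1, ← hb hle, ores_appLE]) i
    obtain ⟨l, hl, hv⟩ := i.is
    refine ⟨i.Ω, b • l, hi, hl.unit_smul (isUnit_of_app H ?_), ?_⟩
    · rw [hb]
      exact T.unit i.is
    · rw [pullSec_smul, hv]
      congr 1
      exact hb.symm
  choose U m hzU hm hUm using hloc
  -- glue
  obtain ⟨s, hs⟩ := res_glue L U (fun z => le_top) (fun z _ => Opens.mem_iSup.mpr ⟨z, hzU z⟩) m (by
    intro z z'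
    obtain ⟨c, hc⟩ := ((hm z').res (inf_le_right : U z ⊓ U z' ≤ U z')).exists_eq
      (Fdesc.LocGen.res L inf_le_left (m z))
    rw [hc]
    have h1 : (H.app (U z ⊓ U z')).hom c = 1 := by
      apply (((hm z').res (inf_le_right : U z ⊓ U z' ≤ U z')).pullSec H).ext
      rw [← pullSec_smul, ← hc, one_smul, ← res_pullSec, ← res_pullSec, ← hUm, ← hUm, res_res, res_res]
    have h2 : c = 1 := app_injective sqH hinj _ (h1.trans (map_one _).symm)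
    rw [h2, one_smul])
  have hsg : IsGen s := IsGen.of_cover U (fun z => le_top) (fun z _ => Opens.mem_iSup.mpr ⟨z, hzU z⟩)
    fun z => by rw [hs z]; exact hm z
  have hiso : IsIso (homOf s) := by
    rw [isIso_iff_isGen, sec_homOf, res_refl]
    exact hsg
  exact ⟨(asIso (homOf s)).symm⟩

end

end Groth.Agent.Pic13.H960.AAMod
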