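import Groth.Agent.Pic13.H960.NumDescent

/-!
# S4294 from S4277 and S4278

`IsTauEquivZero` descends along surjective morphisms of proper schemes, given that τ-equivalence and numerical
equivalence to zero agree on `X'` (τ ⇒ num) and on `X` (num ⇒ τ).
-/

set_option autoImplicit false
universe u
open CategoryTheory CategoryTheory.Limits AlgebraicGeometry

namespace Groth.Agent.Pic13.H960.S4294Of

theorem isTauEquivZero_of_pullback (k : Type u) [Field k] (X' X : Scheme.{u})
    [X'.Over (Spec (CommRingCat.of k))] [X.Over (Spec (CommRingCat.of k))]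
    [IsProper (X' ↘ Spec (CommRingCat.of k))] [IsProper (X ↘ Spec (CommRingCat.of k))]
    (f : X' ⟶ X) (hf : f ≫ (X ↘ Spec (CommRingCat.of k)) = X' ↘ Spec (CommRingCat.of k)) [Surjective f]
    (h1 : ∀ N : X'.Modules, PicF.IsInvertible N → Pic13.IsTauEquivZero k X' N → Pic13.IsNumEquivZero k X' N)
    (h2 : ∀ N : X.Modules, PicF.IsInvertible N → Pic13.IsNumEquivZero k X N → Pic13.IsTauEquivZero k X N)
    (L : X.Modules) (hL : PicF.IsInvertible L) (hτ : Pic13.IsTauEquivZero k X' ((Scheme.Modules.pullback f).obj L)) :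
    Pic13.IsTauEquivZero k X L :=
  h2 L hL (NumDescent.isNumEquivZero_of_pullback k f hf hL
    (h1 _ (Fdesc.LocGen.isInvertible_pullback f hL) hτ))

end Groth.Agent.Pic13.H960.S4294Of
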